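import Cfsg.Agent.ClassicalMax.OTensorFour.Form
import Cfsg.Agent.ClassicalMax.ExtOrth3.Deg3.Form

/-!
`O₄⁻ ⊗ O₄⁻`: an overgroup without all Siegel transformations preserves the four-linear form, and with it the unordered
pair of factors.

Summed over the cosets of the part in the stabiliser, the cosets outside fall into free orbits of the Siegel
transformations of one centre; a sum over such an orbit is a quartic summed over the square of the field.
-/

set_option autoImplicit false
set_option linter.unusedSectionVars false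
set_option linter.style.haveILetI false
set_option synthInstance.maxSize 2000
set_option synthInstance.maxHeartbeats 400000

namespace Cfsg.Agent.ClassicalMax.OTensorFour

open Module QuadraticMap Cfsg.Agent.Classical Cfsg.Agent.Classical.Quad Cfsg.Agent.ClassicalMax
open Cfsg.Agent.ClassicalMax.OTensor (Core InN Over polar_sing two_ne_card)
open Cfsg.Agent.ClassicalMax.OTensor3 (Maps InS inS_flip NS mem_NS pull pull_apply dl dl_apply Sk)

variable {F U W V : Type*} [Field F] [Finite F] [AddCommGroup U] [Module F U] [FiniteDimensional F U]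
  [AddCommGroup W] [Module F W] [FiniteDimensional F W] [AddCommGroup V] [Module F V] [FiniteDimensional F V]
  {Q : QuadraticForm F V} {QU : QuadraticForm F U} {QW : QuadraticForm F W} {pt : U →ₗ[F] W →ₗ[F] V}
  {H : Subgroup (oG Q)}

-- help instance search through nested spaces of maps
noncomputable local instance bilinAddCommGroup : AddCommGroup (V →ₗ[F] V →ₗ[F] F) := LinearMap.addCommGroup
noncomputable local instance bilinModule : Module F (V →ₗ[F] V →ₗ[F] F) := LinearMap.module

theorem card_cases (h2 : (2 : F) ≠ 0) : Nat.card F = 3 ∨ 5 ≤ Nat.card F := by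
  classical
  haveI := Fintype.ofFinite F
  rw [Nat.card_eq_fintype_card]
  have hodd : Fintype.card F % 2 = 1 :=
    FiniteField.odd_card_of_char_ne_two fun e => h2 (by
      have h := ringChar.Nat.cast_ringChar (R := F)
      rw [e] at h
      exact_mod_cast h)
  have h1 := Fintype.one_lt_card (α := F)
  omega

theorem sum_monomial [Fintype F] {i j : ℕ} (h : i < Fintype.card F - 1 ∨ j < Fintype.card F - 1) (k : F) :
    ∑ t : F × F, t.1 ^ i * t.2 ^ j * k = 0 := by
  rw [← Finset.sum_mul, Fintype.sum_prod_type]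
  simp only [← Finset.sum_mul_sum]
  rcases h with h | h
  · rw [FiniteField.sum_pow_lt_card_sub_one (K := F) i h, zero_mul, zero_mul]
  · rw [FiniteField.sum_pow_lt_card_sub_one (K := F) j h, mul_zero, zero_mul]

/-- a bilinear map of two quadratic surfaces sums to zero without the leading coefficient -/
theorem sum_bil2 [Fintype F] (hq : Fintype.card F = 3 ∨ 5 ≤ Fintype.card F) {M : Type*} [AddCommGroup M] [Module F M]
    (B : V →ₗ[F] M →ₗ[F] F) (a0 a1 a2 a3 : V) (b0 b1 b2 b3 : M) (q₁ q₂ : F)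
    (h0 : Fintype.card F = 3 → B a3 b3 = 0) :
    ∑ t : F × F, B (a0 + t.1 • a1 + t.2 • a2 + (q₁ * t.1 ^ 2 + q₂ * t.2 ^ 2) • a3)
      (b0 + t.1 • b1 + t.2 • b2 + (q₁ * t.1 ^ 2 + q₂ * t.2 ^ 2) • b3) = 0 := by
  have hm : ∀ (i j : ℕ) (k : F), i + j ≤ 4 → (i < 2 ∨ j < 2 ∨ (i = 2 ∧ j = 2 ∧ (Fintype.card F = 3 → k = 0))) →
      ∑ t : F × F, t.1 ^ i * t.2 ^ j * k = 0 := by
    intro i j k hij h
    by_cases h3 : Fintype.card F = 3
    · rcases h with h | h | ⟨-, -, h⟩
      · exact sum_monomial (Or.inl (by omega)) k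
      · exact sum_monomial (Or.inr (by omega)) k
      · exact Finset.sum_eq_zero fun t _ => by rw [h h3, mul_zero]
    · exact sum_monomial (by omega) k
  have h : ∀ t : F × F, B (a0 + t.1 • a1 + t.2 • a2 + (q₁ * t.1 ^ 2 + q₂ * t.2 ^ 2) • a3)
      (b0 + t.1 • b1 + t.2 • b2 + (q₁ * t.1 ^ 2 + q₂ * t.2 ^ 2) • b3) =
      t.1 ^ 0 * t.2 ^ 0 * B a0 b0 + t.1 ^ 1 * t.2 ^ 0 * (B a0 b1 + B a1 b0) +
        t.1 ^ 0 * t.2 ^ 1 * (B a0 b2 + B a2 b0) + t.1 ^ 1 * t.2 ^ 1 * (B a1 b2 + B a2 b1) +
        t.1 ^ 2 * t.2 ^ 0 * (B a1 b1 + q₁ * (B a0 b3 + B a3 b0)) +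
        t.1 ^ 0 * t.2 ^ 2 * (B a2 b2 + q₂ * (B a0 b3 + B a3 b0)) +
        t.1 ^ 3 * t.2 ^ 0 * (q₁ * (B a1 b3 + B a3 b1)) + t.1 ^ 2 * t.2 ^ 1 * (q₁ * (B a2 b3 + B a3 b2)) +
        t.1 ^ 1 * t.2 ^ 2 * (q₂ * (B a1 b3 + B a3 b1)) + t.1 ^ 0 * t.2 ^ 3 * (q₂ * (B a2 b3 + B a3 b2)) +
        t.1 ^ 4 * t.2 ^ 0 * (q₁ * q₁ * B a3 b3) + t.1 ^ 2 * t.2 ^ 2 * (2 * (q₁ * q₂) * B a3 b3) +
        t.1 ^ 0 * t.2 ^ 4 * (q₂ * q₂ * B a3 b3) := fun t => by
    simp only [map_add, map_smul, LinearMap.add_apply, LinearMap.smul_apply, smul_eq_mul]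
    ring
  rw [Finset.sum_congr rfl fun t _ => h t]
  simp only [Finset.sum_add_distrib]
  rw [hm 0 0 _ (by omega) (by omega), hm 1 0 _ (by omega) (by omega), hm 0 1 _ (by omega) (by omega),
    hm 1 1 _ (by omega) (by omega), hm 2 0 _ (by omega) (by omega), hm 0 2 _ (by omega) (by omega),
    hm 3 0 _ (by omega) (by omega), hm 2 1 _ (by omega) (by omega), hm 1 2 _ (by omega) (by omega),
    hm 0 3 _ (by omega) (by omega), hm 4 0 _ (by omega) (by omega),
    hm 2 2 _ (by omega) (Or.inr (Or.inr ⟨rfl, rfl, fun e => by rw [h0 e, mul_zero]⟩)),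
    hm 0 4 _ (by omega) (by omega)]
  simp only [add_zero]

namespace Hyp44

variable (hh : Hyp44 Q QU QW pt H)
include hh

theorem flip : Hyp44 Q QW QU pt.flip H where
  set := hh.set.flip
  ne := hh.ne
  norm := fun g hg hN => hh.norm g hg ((inS_flip g.1).1 hN)
  sw := hh.sw.imp fun _ h => h.flip

/-- the sum outside the stabiliser vanishes on pairs antisymmetric in the second factor -/
theorem right_zero (N : Subgroup (oG Q)) (hN : N = NS Q pt) [Fintype (H ⧸ N.subgroupOf H)]
    [DecidableEq (H ⧸ N.subgroupOf H)] (f : V →ₗ[F] V →ₗ[F] V →ₗ[F] V →ₗ[F] F)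
    (C : Finset (H ⧸ N.subgroupOf H)) (hC : ∀ x, x ∈ C ↔ (x.out : oG Q) ∉ N)
    (hf : ∀ g ∈ N, pull f g = f)
    (hinv : ∀ k ∈ H, k ∈ N → pull (∑ x ∈ C, pull f (x.out : oG Q)⁻¹) k = ∑ x ∈ C, pull f (x.out : oG Q)⁻¹)
    (x y : U) (p r : W) :
    (∑ x ∈ C, pull f (x.out : oG Q)⁻¹) (pt x p) (pt y r) - (∑ x ∈ C, pull f (x.out : oG Q)⁻¹) (pt x r) (pt y p) = 0 := by
  classical
  have hS := hh.set
  have h2 := hS.two
  haveI := Fintype.ofFinite F
  haveI : Finite V := Module.finite_of_finite F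
  set Δ := ∑ x ∈ C, pull f (x.out : oG Q)⁻¹ with hΔ
  have hfr : ∀ {c f' v₁ v₂ : W} (fr : Centre QW c f' v₁ v₂) {h : W}, polar QW c h = 0 → polar QW f' h = 0 →
      ∀ z z' : V, Δ (pt x c) (pt y h) z z' - Δ (pt x h) (pt y c) z z' = 0 := by
    intro c f' v₁ v₂ fr h hch hfh
    let w : F × F → W := fun t => t.1 • v₁ + t.2 • v₂
    have hw : ∀ t, polar QW c (w t) = 0 := fun t =>
      polar_perp_add (polar_perp_smul fr.c1 _) (polar_perp_smul fr.c2 _)
    let u : F × F → H := fun t => ⟨hS.lp (1, sO fr.hc (hw t)), sW_mem44 hh.ovr hS fr.hc (hw t)⟩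
    have huadd : ∀ s t, u (s + t) = u s * u t := fun s t => Subtype.ext (by
      show hS.lp (1, sO fr.hc (hw (s + t))) = hS.lp (1, sO fr.hc (hw s)) * hS.lp (1, sO fr.hc (hw t))
      rw [← map_mul, Prod.mk_mul_mk, one_mul, sO_mul,
        sO_congr fr.hc (hw (s + t)) (polar_perp_add (hw s) (hw t)) (by simp only [w, Prod.fst_add, Prod.snd_add]; module)])
    have hu0 : u 0 = 1 := mul_left_cancel (a := u 0) (by rw [← huadd, add_zero, mul_one])
    have huN : ∀ t, (u t : oG Q) ∈ N := fun t => hN ▸ Or.inl (hS.lp_inN _ _)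
    have hQw : ∀ t : F × F, QW (w t) = QW v₁ * t.1 ^ 2 + QW v₂ * t.2 ^ 2 := fun t => by
      simp only [w, map_add', Quad.map_smul', polar_smul_left, polar_smul_right, fr.h12, smul_zero, add_zero]
      ring
    have hw0 : ∀ t, w t = 0 → t = 0 := fun t e => by
      have e1 := congrArg (polar QW v₁) e
      have e2 := congrArg (polar QW v₂) e
      simp only [w, polar_add_right, polar_smul_right, polar_self', fr.h12, polar_comm QW v₂ v₁, smul_eq_mul,
        polar_zero_right, mul_zero, add_zero, zero_add, mul_eq_zero, h2, fr.q1, fr.q2, or_false] at e1 e2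
      exact Prod.ext e1 e2
    let L : W → V →ₗ[F] V := fun v => pt.flip c ∘ₗ hS.pW v - pt.flip v ∘ₗ hS.pW c
    let Mt : V →ₗ[F] V := -(pt.flip c ∘ₗ hS.pW c)
    have hu : ∀ (t : F × F) (z : V), (u t : oG Q).1 z =
        z + t.1 • L v₁ z + t.2 • L v₂ z + (QW v₁ * t.1 ^ 2 + QW v₂ * t.2 ^ 2) • Mt z := fun t z => by
      show (hS.lp (1, sO fr.hc (hw t))).1 z = _
      have e : hS.pW (w t) z = t.1 • hS.pW v₁ z + t.2 • hS.pW v₂ z := hS.eqU fun a => by
        simp only [w, hS.polar_pW, map_add, map_smul, polar_add_left, polar_smul_left]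
      rw [hS.sW_apply fr.hc (hw t), e, hQw]
      simp only [w, L, Mt, map_add, map_smul, LinearMap.add_apply, LinearMap.smul_apply, LinearMap.sub_apply,
        LinearMap.comp_apply, LinearMap.flip_apply, LinearMap.neg_apply]
      module
    -- the orbit sums
    have horb : ∀ z z', (Fintype.card F = 3 → ∀ G : oG Q, f (G.1 (pt x c)) (G.1 (pt y h)) (G.1 (Mt z)) (G.1 (Mt z')) -
        f (G.1 (pt x h)) (G.1 (pt y c)) (G.1 (Mt z)) (G.1 (Mt z')) = 0) →
        Δ (pt x c) (pt y h) z z' - Δ (pt x h) (pt y c) z z' = 0 := by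
      intro z z' hlead
      simp only [hΔ, LinearMap.sum_apply, ← Finset.sum_sub_distrib, pull_apply]
      refine ExtOrth3.Deg3.sum_free_orbits (fun t x => u t • x) (fun s t x => by rw [huadd, mul_smul])
        (fun x => by rw [hu0, one_smul]) C (fun t x hx => ?_) (fun x hx s t est => ?_) _ fun g _ => ?_
      · rw [hC] at hx ⊢
        intro hm
        apply hx
        have h1 := QuotientGroup.eq.1 (show (((u t • x).out : H) : H ⧸ N.subgroupOf H) = (u t * x.out : H) by
          rw [QuotientGroup.out_eq', ← smul_eq_mul, MulAction.Quotient.mk_smul_out])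
        rw [Subgroup.mem_subgroupOf] at h1
        have h3 := N.mul_mem (N.inv_mem (huN t)) (N.mul_mem hm h1)
        rwa [Subgroup.coe_mul, Subgroup.coe_inv, Subgroup.coe_mul, mul_inv_cancel_left, inv_mul_cancel_left] at h3
      · by_contra hst
        rw [hC] at hx
        have h1 : u (-t + s) • x = x := by
          rw [huadd, mul_smul, show u s • x = u t • x from est, ← mul_smul, ← huadd, neg_add_cancel, hu0, one_smul]
        rw [← QuotientGroup.out_eq' x, MulAction.Quotient.smul_coe, smul_eq_mul, eq_comm, QuotientGroup.eq,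
          Subgroup.mem_subgroupOf, Subgroup.coe_mul, Subgroup.coe_inv, Subgroup.coe_mul, ← mul_assoc] at h1
        have hd : w (-t + s) ≠ 0 := fun e => hst (by
          have e3 := hw0 _ e
          rw [neg_add_eq_zero] at e3
          exact e3.symm)
        have hq : QW (w (-t + s)) ≠ 0 := fun e => by
          obtain ⟨a, ha⟩ := Submodule.mem_span_singleton.1 (hS.ellW c _ fr.hc e (hw _) (hS.centre_ne fr))
          have h3 := congrArg (polar QW f') ha
          simp only [w, polar_smul_right, polar_add_right, polar_comm QW f' c, fr.hcf, fr.f1, fr.f2, smul_eq_mul,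
            mul_one, mul_zero, add_zero] at h3
          exact hd (by rw [← ha, h3, zero_smul])
        have h3 : (x.out : oG Q)⁻¹ ∈ NS Q pt := hh.conj_mem (inv_mem x.out.2) (hS.centre_ne fr) fr.hc (hw _) hq
          (by rw [inv_inv]; exact (SetLike.ext_iff.1 hN _).1 h1)
        refine hx ((SetLike.ext_iff.1 hN _).2 ?_)
        simpa using inv_mem h3
      rw [← Equiv.sum_comp (Equiv.neg (F × F))]
      have hP : ∀ t a b c d, f ((((((u (-t) • g).out : H) : oG Q))⁻¹).1 a) ((((((u (-t) • g).out : H) : oG Q))⁻¹).1 b)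
          ((((((u (-t) • g).out : H) : oG Q))⁻¹).1 c) ((((((u (-t) • g).out : H) : oG Q))⁻¹).1 d) =
          f (((g.out : oG Q)⁻¹).1 ((u t : oG Q).1 a)) (((g.out : oG Q)⁻¹).1 ((u t : oG Q).1 b))
            (((g.out : oG Q)⁻¹).1 ((u t : oG Q).1 c)) (((g.out : oG Q)⁻¹).1 ((u t : oG Q).1 d)) := by
        intro t a b c d
        have h1 := QuotientGroup.eq.1 (show (((u (-t) • g).out : H) : H ⧸ N.subgroupOf H) = (u (-t) * g.out : H) by
          rw [QuotientGroup.out_eq', ← smul_eq_mul, MulAction.Quotient.mk_smul_out])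
        rw [Subgroup.mem_subgroupOf, Subgroup.coe_mul, Subgroup.coe_inv, Subgroup.coe_mul] at h1
        set g₀ := (((u (-t) • g).out : H) : oG Q)
        set k := g₀⁻¹ * ((u (-t) : oG Q) * (g.out : oG Q)) with hk
        have e : g₀⁻¹ = k * ((g.out : oG Q)⁻¹ * (u t : oG Q)) := by
          have : (u (-t) : oG Q) * (u t : oG Q) = 1 := by
            rw [← Subgroup.coe_mul, ← huadd, neg_add_cancel, hu0, OneMemClass.coe_one]
          rw [hk, mul_assoc, mul_assoc, mul_inv_cancel_left, this, mul_one]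
        rw [e]
        have h3 := LinearMap.congr_fun (LinearMap.congr_fun (LinearMap.congr_fun₂ (hf k h1)
          (((g.out : oG Q)⁻¹ * (u t : oG Q)).1 a) (((g.out : oG Q)⁻¹ * (u t : oG Q)).1 b))
          (((g.out : oG Q)⁻¹ * (u t : oG Q)).1 c)) (((g.out : oG Q)⁻¹ * (u t : oG Q)).1 d)
        rw [pull_apply] at h3
        simp only [oG_mul_apply] at h3 ⊢
        exact h3
      simp only [Equiv.neg_apply, hP]
      set G := (g.out : oG Q)⁻¹
      let B : V →ₗ[F] V →ₗ[F] F := (f (G.1 (pt x c)) (G.1 (pt y h)) - f (G.1 (pt x h)) (G.1 (pt y c))).compl₁₂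
        (G.1 : V →ₗ[F] V) (G.1 : V →ₗ[F] V)
      refine Eq.trans (Finset.sum_congr rfl fun t _ => ?_)
        (sum_bil2 (by rw [← Nat.card_eq_fintype_card]; exact card_cases h2) B z (L v₁ z) (L v₂ z) (Mt z) z' (L v₁ z')
          (L v₂ z') (Mt z') (QW v₁) (QW v₂) fun e => hlead e G)
      have hc1 : ∀ a, (u t : oG Q).1 (pt a c) = pt a c := fun a => by
        show (hS.lp (1, sO fr.hc (hw t))).1 (pt a c) = _
        rw [hS.sW_apply fr.hc (hw t), hS.pW_pt, hS.pW_pt, polar_sing fr.hc, polar_comm QW (w t) c, hw t]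
        simp
      have hh1 : ∀ a, (u t : oG Q).1 (pt a h) = pt a h + polar QW (w t) h • pt a c := fun a => by
        show (hS.lp (1, sO fr.hc (hw t))).1 (pt a h) = _
        rw [hS.sW_apply fr.hc (hw t), hS.pW_pt, hS.pW_pt, hch]
        simp
      show _ - _ = B _ _
      rw [← hu, ← hu, hc1, hc1, hh1, hh1]
      simp only [B, map_add, map_smul, LinearMap.compl₁₂_apply, LinearMap.sub_apply, LinearMap.add_apply,
        LinearMap.smul_apply, LinearEquiv.coe_coe]
      abel
    have hMzero : ∀ z z' : V, hS.pW c z = 0 ∨ hS.pW c z' = 0 →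
        Δ (pt x c) (pt y h) z z' - Δ (pt x h) (pt y c) z z' = 0 := fun z z' hz => horb z z' fun _ G => by
      rcases hz with hz | hz <;> simp [Mt, hz]
    have hff : ∀ A A', Δ (pt x c) (pt y h) (pt A f') (pt A' f') - Δ (pt x h) (pt y c) (pt A f') (pt A' f') = 0 := by
      intro A A'
      by_cases h3 : Fintype.card F = 3
      swap
      · exact horb _ _ fun e => absurd e h3
      haveI hP : CharP F 3 := by
        haveI : Fact (Nat.Prime 3) := ⟨Nat.prime_three⟩
        exact charP_of_card_eq_prime h3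
      have hsum : QW (v₁ + v₂) ≠ 0 := fun e => by
        obtain ⟨a, ha⟩ := Submodule.mem_span_singleton.1 (hS.ellW c _ fr.hc e (polar_perp_add fr.c1 fr.c2)
          (hS.centre_ne fr))
        have e3 := congrArg (polar QW f') ha
        simp only [polar_smul_right, polar_add_right, polar_comm QW f' c, fr.hcf, fr.f1, fr.f2, smul_eq_mul,
          mul_one, add_zero] at e3
        have e4 := congrArg (polar QW v₁) ha
        rw [e3, zero_smul, polar_zero_right, polar_add_right, polar_self', fr.h12, add_zero, eq_comm,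
          mul_eq_zero] at e4
        exact fr.q1 (e4.resolve_left h2)
      have heq : QW v₂ = QW v₁ := by
        rw [map_add', fr.h12, add_zero] at hsum
        have hall : ∀ z : F, z = 0 ∨ z = 1 ∨ z = -1 := by
          by_contra! hno
          obtain ⟨z, hz0, hz1, hz2⟩ := hno
          have h1 : ({0, 1, -1, z} : Finset F).card = 4 := by
            have e1 : (1 : F) ≠ -1 := fun e => h2 (by linear_combination e)
            simp [hz0.symm, hz1.symm, hz2.symm, e1]
          have := (Finset.card_le_univ ({0, 1, -1, z} : Finset F))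
          omega
        rcases hall (QW v₁) with e | e | e <;> rcases hall (QW v₂) with e' | e' | e' <;>
          first
          | exact absurd e fr.q1
          | exact absurd e' fr.q2
          | exact e'.trans e.symm
          | exact absurd (by rw [e, e']; ring : QW v₁ + QW v₂ = 0) hsum
      have hk := rO_mul_mem_commutator hS.ndW fr.q1 fr.q2 (t := 1) (by rw [heq]; ring)
      set k := rO fr.q1 * rO fr.q2
      have hkv : ∀ z, polar QW v₁ z = 0 → polar QW v₂ z = 0 → k.1 z = z := fun z e1 e2 => by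
        rw [oG_mul_apply, rO_apply fr.q2, polar_comm QW z v₂, e2, zero_div, zero_smul, sub_zero, rO_apply,
          polar_comm QW z v₁, e1, zero_div, zero_smul, sub_zero]
      have hkc : k.1 c = c := hkv c (by rw [polar_comm, fr.c1]) (by rw [polar_comm, fr.c2])
      have hkf : k.1 f' = f' := hkv f' (by rw [polar_comm, fr.f1]) (by rw [polar_comm, fr.f2])
      have hkh : k.1 h = -h := by
        have e := fr.expand h
        rw [hch, hfh, zero_smul, zero_smul, zero_add, zero_add] at e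
        have e1 : k.1 v₁ = -v₁ := by
          rw [oG_mul_apply, rO_apply fr.q2, fr.h12, zero_div, zero_smul, sub_zero, rO_apply, polar_self',
            mul_div_assoc, div_self fr.q1, mul_one]
          module
        have e2 : k.1 v₂ = -v₂ := by
          rw [oG_mul_apply, rO_apply fr.q2, polar_self', mul_div_assoc, div_self fr.q2, mul_one, rO_apply,
            polar_sub_left, polar_smul_left, polar_comm QW v₂ v₁, fr.h12, smul_zero, sub_zero, zero_div, zero_smul,
            sub_zero]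
          module
        conv_lhs => rw [e, map_add, map_smul, map_smul, e1, e2, smul_neg, smul_neg, ← neg_add, ← e]
      have hgN : hS.lp (1, k) ∈ N := hN ▸ Or.inl (hS.lp_inN _ _)
      have h1 := hinv _ (hh.ovr.lp_memC hS.toCore (one_mem _) hk) hgN
      have e1 := LinearMap.congr_fun (LinearMap.congr_fun (LinearMap.congr_fun₂ h1 (pt x c) (pt y h)) (pt A f')) (pt A' f')
      have e2 := LinearMap.congr_fun (LinearMap.congr_fun (LinearMap.congr_fun₂ h1 (pt x h) (pt y c)) (pt A f')) (pt A' f')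
      simp only [pull_apply, hS.lp_pt, hkc, hkf, hkh, oG_one_apply, map_neg, LinearMap.neg_apply] at e1 e2
      refine (mul_eq_zero.1 (show (2 : F) * (Δ (pt x c) (pt y h) (pt A f') (pt A' f') -
        Δ (pt x h) (pt y c) (pt A f') (pt A' f')) = 0 from ?_)).resolve_left h2
      linear_combination -e1 + e2
    intro z z'
    obtain ⟨A, hA⟩ : ∃ A, A = hS.pW c z := ⟨_, rfl⟩
    obtain ⟨A', hA'⟩ : ∃ A', A' = hS.pW c z' := ⟨_, rfl⟩
    have hz0 : hS.pW c (z - pt A f') = 0 := by
      rw [map_sub, hS.pW_pt, fr.hcf, one_smul, ← hA, sub_self]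
    have hz0' : hS.pW c (z' - pt A' f') = 0 := by
      rw [map_sub, hS.pW_pt, fr.hcf, one_smul, ← hA', sub_self]
    have k1 := hMzero (z - pt A f') z' (Or.inl hz0)
    have k2 := hMzero (pt A f') (z' - pt A' f') (Or.inr hz0')
    have k3 := hff A A'
    simp only [map_sub, LinearMap.sub_apply] at k1 k2
    linear_combination k1 + k2 + k3
  obtain ⟨c, hc0, hc⟩ := exists_singular QW hS.dimW_ge
  obtain ⟨f', v₁, v₂, fr⟩ := hS.exists_centre' hc0 hc
  let g : W → W → V →ₗ[F] V →ₗ[F] F := fun a b => Δ (pt x a) (pt y b) - Δ (pt x b) (pt y a)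
  have gz : ∀ {c f' v₁ v₂ : W}, Centre QW c f' v₁ v₂ → ∀ {h}, polar QW c h = 0 → polar QW f' h = 0 → g c h = 0 :=
    fun fr _ h1 h3 => LinearMap.ext₂ fun z z' => hfr fr h1 h3 z z'
  have g1 := gz fr fr.c1 fr.f1
  have g2 := gz fr fr.c2 fr.f2
  have frs : Centre QW f' c v₁ v₂ :=
    hS.mk_centre fr.hf fr.hc (by rw [polar_comm, fr.hcf]) fr.f1 fr.f2 fr.c1 fr.c2 fr.h12 fr.q1 fr.q2
  have g3 := gz frs fr.f1 fr.c1
  have g4 := gz frs fr.f2 fr.c2
  set c' := c + v₁ + (-QW v₁) • f' with hc'd
  have hc' : QW c' = 0 := by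
    rw [hc'd, map_add_smul, map_add', fr.hc, fr.hf, fr.c1, polar_add_left, fr.hcf, polar_comm QW v₁ f', fr.f1]
    ring
  have hc'0 : c' ≠ 0 := fun e => by
    have := congrArg (polar QW f') e
    simp only [hc'd, polar_add_right, polar_smul_right, polar_comm QW f' c, fr.hcf, fr.f1, polar_sing fr.hf,
      smul_zero, add_zero, polar_zero_right] at this
    exact one_ne_zero this
  set h5 := v₁ + (-(2 * QW v₁)) • f' with h5d
  have hp5 : polar QW c' h5 = 0 := by
    simp only [hc'd, h5d, polar_add_left, polar_add_right, polar_smul_left, polar_smul_right, fr.c1, fr.hcf,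
      polar_self', polar_comm QW v₁ f', fr.f1, polar_sing fr.hf, smul_eq_mul]
    ring
  obtain ⟨f₅, w₁, w₂, fr5⟩ := hS.exists_centre' hc'0 hc'
  have hperp : ∀ h, polar QW c' h = 0 → g c' h = 0 := fun h hh' => by
    have e : h = polar QW f₅ h • c' + (h - polar QW f₅ h • c') := by module
    have h3 := gz fr5 (h := h - polar QW f₅ h • c')
      (by rw [polar_sub_right, polar_smul_right, hh', polar_sing hc', smul_zero, sub_zero])
      (by rw [polar_sub_right, polar_smul_right, polar_comm QW f₅ c', fr5.hcf, smul_eq_mul, mul_one, sub_self])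
    refine LinearMap.ext₂ fun z z' => ?_
    have h4 := LinearMap.congr_fun₂ h3 z z'
    rw [e]
    simp only [g, map_add, map_sub, map_smul, LinearMap.add_apply, LinearMap.sub_apply, LinearMap.smul_apply,
      LinearMap.zero_apply, smul_eq_mul] at h4 ⊢
    linear_combination h4
  have g5 := hperp h5 hp5
  have g6 := hperp v₂ (by
    simp only [hc'd, polar_add_left, polar_smul_left, fr.c2, fr.h12, fr.f2, smul_zero, add_zero])
  show g p r = 0
  refine LinearMap.ext₂ fun z z' => ?_
  replace g1 := LinearMap.congr_fun₂ g1 z z'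
  replace g2 := LinearMap.congr_fun₂ g2 z z'
  replace g3 := LinearMap.congr_fun₂ g3 z z'
  replace g4 := LinearMap.congr_fun₂ g4 z z'
  replace g5 := LinearMap.congr_fun₂ g5 z z'
  replace g6 := LinearMap.congr_fun₂ g6 z z'
  have hq := mul_ne_zero h2 fr.q1
  have gcf : Δ (pt x c) (pt y f') z z' - Δ (pt x f') (pt y c) z z' = 0 := by
    refine (mul_eq_zero.1 (show (2 * QW v₁) * (Δ (pt x c) (pt y f') z z' - Δ (pt x f') (pt y c) z z') = 0 from ?_)
      ).resolve_left hq
    simp only [g, hc'd, h5d, map_add, map_smul, LinearMap.add_apply, LinearMap.sub_apply, LinearMap.smul_apply,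
      LinearMap.zero_apply, smul_eq_mul] at g1 g3 g5
    linear_combination -g5 + g1 + (QW v₁) * g3
  have g12 : Δ (pt x v₁) (pt y v₂) z z' - Δ (pt x v₂) (pt y v₁) z z' = 0 := by
    simp only [g, hc'd, map_add, map_smul, LinearMap.add_apply, LinearMap.sub_apply, LinearMap.smul_apply,
      LinearMap.zero_apply, smul_eq_mul] at g2 g4 g6
    linear_combination g6 - g2 + (QW v₁) * g4
  rw [fr.expand p, fr.expand r]
  simp only [g, map_add, map_smul, LinearMap.add_apply, LinearMap.sub_apply, LinearMap.smul_apply,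
    LinearMap.zero_apply, smul_eq_mul] at g1 g2 g3 g4 ⊢
  linear_combination
    (polar QW f' p * polar QW c r - polar QW c p * polar QW f' r) * gcf +
    (polar QW f' p * ((2 * QW v₁)⁻¹ * polar QW v₁ r) - ((2 * QW v₁)⁻¹ * polar QW v₁ p) * polar QW f' r) * g1 +
    (polar QW f' p * ((2 * QW v₂)⁻¹ * polar QW v₂ r) - ((2 * QW v₂)⁻¹ * polar QW v₂ p) * polar QW f' r) * g2 +
    (polar QW c p * ((2 * QW v₁)⁻¹ * polar QW v₁ r) - ((2 * QW v₁)⁻¹ * polar QW v₁ p) * polar QW c r) * g3 +
    (polar QW c p * ((2 * QW v₂)⁻¹ * polar QW v₂ r) - ((2 * QW v₂)⁻¹ * polar QW v₂ p) * polar QW c r) * g4 +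
    (((2 * QW v₁)⁻¹ * polar QW v₁ p) * ((2 * QW v₂)⁻¹ * polar QW v₂ r) -
      ((2 * QW v₂)⁻¹ * polar QW v₂ p) * ((2 * QW v₁)⁻¹ * polar QW v₁ r)) * g12

/-- the overgroup preserves the four-linear form -/
theorem f4_all {g : oG Q} (hg : g ∈ H) : pull hh.set.f4 g = hh.set.f4 := by
  classical
  have hS := hh.set
  haveI : Finite V := Module.finite_of_finite F
  haveI : Finite (V ≃ₗ[F] V) := Finite.of_injective (fun g : V ≃ₗ[F] V => (g : V → V)) DFunLike.coe_injective
  haveI : Finite (oG Q) := Subtype.finite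
  set N := NS Q pt with hNdef
  set R := N.subgroupOf H
  haveI := Fintype.ofFinite (H ⧸ R)
  set f := hh.set.f4
  let P : H ⧸ R → V →ₗ[F] V →ₗ[F] V →ₗ[F] V →ₗ[F] F := fun x => pull f (x.out : oG Q)⁻¹
  have hP : ∀ (h : H) a b c d, P (h : H ⧸ R) a b c d = pull f (h : oG Q)⁻¹ a b c d := fun h a b c d => by
    have h1 := QuotientGroup.eq.1 (show ((((h : H ⧸ R)).out : H) : H ⧸ R) = (h : H ⧸ R) from QuotientGroup.out_eq' _)
    rw [Subgroup.mem_subgroupOf, Subgroup.coe_mul, Subgroup.coe_inv] at h1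
    set g := (((h : H ⧸ R)).out : oG Q)
    have e : g⁻¹ = (g⁻¹ * (h : oG Q)) * (h : oG Q)⁻¹ := by rw [mul_inv_cancel_right]
    simp only [P, pull_apply]
    rw [e]
    have h2 := LinearMap.congr_fun (LinearMap.congr_fun (LinearMap.congr_fun₂ (hS.f4_inv h1)
      (((h : oG Q)⁻¹).1 a) (((h : oG Q)⁻¹).1 b)) (((h : oG Q)⁻¹).1 c)) (((h : oG Q)⁻¹).1 d)
    rw [pull_apply] at h2
    exact h2
  have hΦ : ∀ (u : H) a b c d, (∑ x, P x ((u : oG Q).1 a) ((u : oG Q).1 b) ((u : oG Q).1 c) ((u : oG Q).1 d)) =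
      ∑ x, P x a b c d := fun u a b c d => by
    refine Fintype.sum_equiv (MulAction.toPerm u⁻¹) _ _ fun x => ?_
    have e : u⁻¹ • x = ((u⁻¹ * x.out : H) : H ⧸ R) := by
      rw [← smul_eq_mul, MulAction.Quotient.mk_smul_out]
    rw [MulAction.toPerm_apply, e, hP]
    simp only [P, pull_apply, Subgroup.coe_mul, Subgroup.coe_inv, _root_.mul_inv_rev, inv_inv, oG_mul_apply]
    rfl
  let C : Finset (H ⧸ R) := Finset.univ.filter fun x => (x.out : oG Q) ∉ N
  have hC : ∀ x, x ∈ C ↔ (x.out : oG Q) ∉ N := fun x => by simp [C]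
  have hbase : Finset.univ.filter (fun x : H ⧸ R => (x.out : oG Q) ∈ N) = {((1 : H) : H ⧸ R)} := by
    ext x
    simp only [Finset.mem_filter, Finset.mem_univ, true_and, Finset.mem_singleton]
    constructor
    · intro hx
      rw [← QuotientGroup.out_eq' x, QuotientGroup.eq, Subgroup.mem_subgroupOf, Subgroup.coe_mul, Subgroup.coe_inv,
        OneMemClass.coe_one, mul_one]
      exact N.inv_mem hx
    · rintro rfl
      have h1 := QuotientGroup.eq.1 (QuotientGroup.out_eq' (((1 : H) : H ⧸ R))).symm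
      rw [Subgroup.mem_subgroupOf, Subgroup.coe_mul, Subgroup.coe_inv, OneMemClass.coe_one, inv_one, one_mul] at h1
      exact h1
  set Δ := ∑ x ∈ C, pull f (x.out : oG Q)⁻¹ with hΔdef
  have hsplit : ∀ a b c d, (∑ x, P x a b c d) = f a b c d + Δ a b c d := fun a b c d => by
    rw [← Finset.sum_filter_add_sum_filter_not Finset.univ (fun x : H ⧸ R => (x.out : oG Q) ∈ N), hbase,
      Finset.sum_singleton, hP, OneMemClass.coe_one, inv_one, pull_apply]
    simp only [hΔdef, LinearMap.sum_apply, C, P, oG_one_apply]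
  have hinv : ∀ k ∈ H, k ∈ N → pull Δ k = Δ := fun k hk hkN => by
    refine LinearMap.ext₂ fun a b => LinearMap.ext₂ fun c d => ?_
    have h1 := hΦ ⟨k, hk⟩ a b c d
    rw [hsplit, hsplit] at h1
    have h2 := LinearMap.congr_fun (LinearMap.congr_fun (LinearMap.congr_fun₂ (hS.f4_inv hkN) a b) c) d
    rw [pull_apply] at h2
    rw [show ((⟨k, hk⟩ : H) : oG Q) = k from rfl, h2] at h1
    rw [pull_apply]
    exact add_left_cancel h1
  have hNflip : N = NS Q pt.flip := Subgroup.ext fun g => (inS_flip g.1).symm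
  have hswap : ∀ a b, Δ b a = -Δ a b := fun a b => LinearMap.ext₂ fun c d => by
    simp only [hΔdef, LinearMap.sum_apply, LinearMap.neg_apply, ← Finset.sum_neg_distrib]
    exact Finset.sum_congr rfl fun x _ => by rw [pull_apply, pull_apply, hS.f4_swap]
  have hzero : Δ = 0 := by
    refine hS.ext_pure (M := V →ₗ[F] V →ₗ[F] V →ₗ[F] F) (f := Δ) (g := 0) fun x p =>
      hS.ext_pure (M := V →ₗ[F] V →ₗ[F] F) fun y r => ?_
    show Δ (pt x p) (pt y r) = 0
    have hfi : ∀ g ∈ N, pull f g = f := fun g hg => hS.f4_inv hg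
    have e1 := hh.right_zero N hNdef f C hC hfi hinv x y p r
    have e2 := hh.flip.right_zero N hNflip f C hC hfi hinv p r x y
    simp only [LinearMap.flip_apply] at e1 e2
    change Δ _ _ - Δ _ _ = 0 at e1 e2
    rw [hswap (pt x r) (pt y p)] at e2
    have e3 : (2 : F) • Δ (pt x p) (pt y r) = 0 := by linear_combination (norm := module) e1 + e2
    exact (smul_eq_zero.1 e3).resolve_left hS.two
  refine LinearMap.ext₂ fun a b => LinearMap.ext₂ fun c d => ?_
  have h1 := hΦ ⟨g, hg⟩ a b c d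
  rw [hsplit, hsplit, hzero] at h1
  simp only [LinearMap.zero_apply, add_zero] at h1
  rw [pull_apply]
  exact h1

/-- an overgroup without all Siegel transformations preserves the unordered pair of factors -/
theorem ns_all {g : oG Q} (hg : g ∈ H) : g ∈ NS Q pt := by
  classical
  have hS := hh.set
  have h2 := hS.two
  obtain ⟨p, hp⟩ := CharP.exists F
  haveI := hp
  have hpp : p.Prime := (CharP.char_is_prime_or_zero F p).resolve_right fun e => by
    subst e
    haveI := CharP.charP_to_charZero F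
    exact not_finite F
  haveI := Fact.mk hpp
  have hp2 : p ≠ 2 := fun e => h2 (by subst e; exact CharP.ofNat_eq_zero F 2)
  obtain ⟨c, hc0, hc⟩ := exists_singular QW hS.dimW_ge
  obtain ⟨f', v, v₂, fr⟩ := hS.exists_centre' hc0 hc
  obtain ⟨e, he0, he⟩ := exists_singular QU hS.dimU_ge
  obtain ⟨e', he', hee⟩ := exists_hyp_pair hS.ndU he0 he
  have hconj : ∀ a b z, hS.opr (g.1 a) (g.1 b) z = g.1 (hS.opr a b (g⁻¹.1 z)) := by
    intro a b z
    refine hS.eqV fun d => ?_
    have h1 := LinearMap.congr_fun (LinearMap.congr_fun (LinearMap.congr_fun₂ (hh.f4_all hg) a b) ((g⁻¹).1 z)) ((g⁻¹).1 d)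
    rw [pull_apply, oG_apply_inv, oG_apply_inv] at h1
    rw [hS.polar_opr, h1, ← hS.polar_opr]
    conv_rhs => rw [← oG_apply_inv g d, polar_oG]
  set E0 := hS.opr (pt e c) (pt e' v) with hE0
  have hE0p : ∀ x y, E0 (pt x y) = pt x (dl QW c v y) := fun x y => by
    rw [hE0, hS.opr_pt, fr.c1, hee, zero_smul, one_smul, LinearMap.zero_apply, map_zero, LinearMap.zero_apply, zero_add]
  have hsq : ∀ z, E0 (E0 z) = pt ((-(2 * QW v)) • hS.pW c z) c := fun z => by
    refine LinearMap.congr_fun (f := E0 ∘ₗ E0) (g := pt.flip c ∘ₗ ((-(2 * QW v)) • hS.pW c))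
      (hS.ext_pure fun x y => ?_) z
    simp only [LinearMap.comp_apply, LinearMap.smul_apply, LinearMap.flip_apply, hE0p, hS.pW_pt, dl_apply,
      polar_sub_right, polar_smul_right, polar_sing hc, fr.c1, polar_self', polar_comm QW v c, map_smul, map_sub,
      LinearMap.smul_apply]
    module
  set E1 := hS.opr (g.1 (pt e c)) (g.1 (pt e' v)) with hE1
  have hgE : ∀ z, E1 (g.1 z) = g.1 (E0 z) := fun z => by rw [hE1, hconj, oG_inv_apply]
  obtain ⟨L, R, hL, hR, hLR⟩ := hS.opr_mem (g.1 (pt e c)) (g.1 (pt e' v))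
  rw [← hE1] at hLR
  have hsq1 : ∀ z, (E1 * E1 : Module.End F V) (g.1 z) = g.1 (pt ((-(2 * QW v)) • hS.pW c z) c) := fun z => by
    rw [Module.End.mul_apply, hgE, hgE, hsq]
  -- nilpotency
  have hE3 : E1 ^ 3 = 0 := LinearMap.ext fun z => by
    obtain ⟨z, rfl⟩ : ∃ z', g.1 z' = z := ⟨_, oG_apply_inv g z⟩
    rw [show E1 ^ 3 = E1 * (E1 * E1) by rw [pow_succ', pow_two], Module.End.mul_apply, hsq1, hgE, hE0p, dl_apply,
      polar_sing hc, polar_comm QW v c, fr.c1]
    simp
  have hEp : E1 ^ p = 0 := by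
    obtain ⟨i, hi⟩ := Nat.exists_eq_add_of_le (show 3 ≤ p by have := hpp.two_le; omega)
    rw [hi, pow_add, hE3, zero_mul]
  let cast1 : ∀ (A : Module.End F U) (B : Module.End F W), Prop := fun A B => ∀ x y, pt (A x) y + pt x (B y) = 0
  have hLpR : cast1 (L ^ p) (R ^ p) := by
    obtain ⟨Lh, hLh⟩ : ∃ Lh : Module.End F V, Lh = pt.flip c ∘ₗ L ∘ₗ hS.pW f' + pt.flip f' ∘ₗ L ∘ₗ hS.pW c +
        (2 * QW v)⁻¹ • (pt.flip v ∘ₗ L ∘ₗ hS.pW v) + (2 * QW v₂)⁻¹ • (pt.flip v₂ ∘ₗ L ∘ₗ hS.pW v₂) := ⟨_, rfl⟩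
    have hl : ∀ x y, Lh (pt x y) = pt (L x) y := fun x y => by
      rw [hLh]
      simp only [LinearMap.add_apply, LinearMap.smul_apply, LinearMap.comp_apply, LinearMap.flip_apply, hS.pW_pt,
        map_smul, LinearMap.smul_apply, smul_smul]
      conv_rhs => rw [fr.expand y, map_add, map_add, map_add, map_smul, map_smul, map_smul, map_smul]
    have hr : ∀ x y, (E1 - Lh) (pt x y) = pt x (R y) := fun x y => by
      rw [LinearMap.sub_apply, hl, hLR, add_sub_cancel_left]
    have hcomm : Commute Lh (E1 - Lh) := hS.ext_pure fun x y => by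
      simp only [Module.End.mul_apply, hl, hr]
    have hpl : ∀ (n : ℕ) x y, (Lh ^ n) (pt x y) = pt ((L ^ n) x) y := by
      intro n
      induction n with
      | zero => intro x y; rfl
      | succ n ih => intro x y; rw [pow_succ', pow_succ', Module.End.mul_apply, Module.End.mul_apply, ih, hl]
    have hpr : ∀ (n : ℕ) x y, ((E1 - Lh) ^ n) (pt x y) = pt x ((R ^ n) y) := by
      intro n
      induction n with
      | zero => intro x y; rfl
      | succ n ih => intro x y; rw [pow_succ', pow_succ', Module.End.mul_apply, Module.End.mul_apply, ih, hr]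
    haveI : Nontrivial (Module.End F V) := by
      obtain ⟨u, hu⟩ := exists_aniso hS.ndU (by rw [hS.dimU]; omega : 0 < finrank F U)
      obtain ⟨w, hw⟩ := exists_aniso hS.ndW (by rw [hS.dimW]; omega : 0 < finrank F W)
      haveI : Nontrivial V := nontrivial_of_ne (pt u w) 0 fun e0 => by
        have := hS.Q_pure u w
        rw [e0, QuadraticMap.map_zero, eq_comm, mul_eq_zero, mul_eq_zero] at this
        exact (this.resolve_right hw).elim h2 hu
      infer_instance
    haveI : CharP (Module.End F V) p :=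
      charP_of_injective_ringHom (R := F) (algebraMap F (Module.End F V)).injective p
    have hsum : Lh ^ p + (E1 - Lh) ^ p = 0 := by
      rw [← add_pow_char_of_commute (R := Module.End F V) p hcomm, add_sub_cancel, hEp]
    intro x y
    have h1 := LinearMap.congr_fun hsum (pt x y)
    rwa [LinearMap.add_apply, hpl, hpr, LinearMap.zero_apply] at h1
  obtain ⟨y₁, hy₁⟩ := exists_aniso hS.ndW (by rw [hS.dimW]; omega : 0 < finrank F W)
  obtain ⟨u₁, hu₁⟩ := exists_aniso hS.ndU (by rw [hS.dimU]; omega : 0 < finrank F U)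
  have hqy : polar QW y₁ y₁ ≠ 0 := by rw [polar_self']; exact mul_ne_zero h2 hy₁
  have hqu : polar QU u₁ u₁ ≠ 0 := by rw [polar_self']; exact mul_ne_zero h2 hu₁
  obtain ⟨lam, hlam⟩ : ∃ lam, lam = -(polar QW y₁ ((R ^ p) y₁)) / polar QW y₁ y₁ := ⟨_, rfl⟩
  have hLlam : ∀ x, (L ^ p) x = lam • x := fun x => by
    have h1 := congrArg (hS.pW y₁) (hLpR x y₁)
    rw [map_add, hS.pW_pt, hS.pW_pt, map_zero] at h1
    refine smul_right_injective _ hqy ?_
    show polar QW y₁ y₁ • (L ^ p) x = polar QW y₁ y₁ • (lam • x)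
    rw [smul_smul, hlam, mul_div_cancel₀ _ hqy]
    linear_combination (norm := module) h1
  have hskew : ∀ (n : ℕ) x y, polar QU ((L ^ n) x) y = (-1) ^ n * polar QU x ((L ^ n) y) := by
    intro n
    induction n with
    | zero => intro x y; simp
    | succ n ih =>
      intro x y
      rw [show (L ^ (n + 1)) x = L ((L ^ n) x) by rw [pow_succ']; rfl,
        show (L ^ (n + 1)) y = (L ^ n) (L y) by rw [pow_succ]; rfl, eq_neg_of_add_eq_zero_left (hL _ y), ih]
      ring
  have hlam0 : lam = 0 := by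
    have h1 := hskew p u₁ u₁
    rw [hLlam, polar_smul_left, polar_smul_right, (hpp.odd_of_ne_two hp2).neg_one_pow, smul_eq_mul] at h1
    exact (mul_eq_zero.1 (show (2 * lam) * polar QU u₁ u₁ = 0 by linear_combination h1)).resolve_right hqu
      |> fun e => (mul_eq_zero.1 e).resolve_left h2
  have hLn : L ^ p = 0 := LinearMap.ext fun x => by rw [hLlam, hlam0, zero_smul, LinearMap.zero_apply]
  have hRn : R ^ p = 0 := LinearMap.ext fun y => by
    have h1 := hLpR u₁ y
    rw [hLn, LinearMap.zero_apply, map_zero, LinearMap.zero_apply, zero_add] at h1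
    exact hS.eq_of_pU (e := u₁) (fun e => hu₁ (by rw [e, QuadraticMap.map_zero])) (by rw [h1, LinearMap.zero_apply, map_zero])
  refine hh.inS_of_square hg hc0 hc (ε := 0) (N := L) (M := R) ?_ ⟨p, hLn⟩ ?_ ⟨p, hRn⟩ (T := E1) (fun x y => ?_)
    (fun z => ?_) (fun u => ?_)
  · intro x y
    rw [zero_mul, add_zero]
    exact hL x y
  · intro x y
    rw [zero_mul, add_zero]
    exact hR x y
  · rw [hLR, zero_smul, add_zero]
  · obtain ⟨z, rfl⟩ : ∃ z', g.1 z' = z := ⟨_, oG_apply_inv g z⟩
    exact ⟨_, hsq1 z⟩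
  · refine ⟨g.1 (pt ((-(2 * QW v))⁻¹ • u) f'), ?_⟩
    rw [hsq1, hS.pW_pt, fr.hcf, one_smul, smul_inv_smul₀ (neg_ne_zero.2 (mul_ne_zero h2 fr.q1))]

end Hyp44

end Cfsg.Agent.ClassicalMax.OTensorFour
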