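import Cfsg.Agent.ClassicalMax.OTensorFour.Nilp
import Cfsg.Agent.ClassicalMax.OTensor3.Basic
import Cfsg.Agent.ClassicalMax.OTensor4.Torus

/-!
`O₄⁻ ⊗ O₄⁻`: an element of an overgroup that conjugates a Siegel transformation of one factor into the stabiliser, or
carries `U ⊗ c` onto such a space of either kind, lies in the stabiliser.
-/

set_option autoImplicit false
set_option linter.unusedSectionVars false
set_option linter.style.haveILetI false

namespace Cfsg.Agent.ClassicalMax.OTensorFour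

open Module QuadraticMap Cfsg.Agent.Classical Cfsg.Agent.Classical.Quad Cfsg.Agent.ClassicalMax
open Cfsg.Agent.ClassicalMax.OTensor (Core InN Over polar_sing two_ne_card sO_pow)
open Cfsg.Agent.ClassicalMax.OTensor3 (Maps InS NS mem_NS)

variable {F U W V : Type*} [Field F] [Finite F] [AddCommGroup U] [Module F U] [FiniteDimensional F U]
  [AddCommGroup W] [Module F W] [FiniteDimensional F W] [AddCommGroup V] [Module F V] [FiniteDimensional F V]
  {Q : QuadraticForm F V} {QU : QuadraticForm F U} {QW : QuadraticForm F W} {pt : U →ₗ[F] W →ₗ[F] V}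
  {H : Subgroup (oG Q)}

/-- an overgroup without all Siegel transformations of the stabiliser of an unordered pair of factors -/
structure Hyp44 (Q : QuadraticForm F V) (QU : QuadraticForm F U) (QW : QuadraticForm F W)
    (pt : U →ₗ[F] W →ₗ[F] V) (H : Subgroup (oG Q)) : Prop where
  set : Frame44 Q QU QW pt
  ne : ¬ eo Q ≤ H
  norm : ∀ g ∈ commutator (oG Q), g ∈ NS Q pt → g ∈ H
  sw : ∃ σ : oG Q, Maps pt.flip pt σ.1

/-- the square of the map of one factor -/
theorem pure_square (hF : Frame44 Q QU QW pt) {ε : F} {M : Module.End F W} {c w : W} (hc : QW c = 0)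
    (hcw : polar QW c w = 0)
    (hM : ∀ z, M z = polar QW w z • c - polar QW c z • w - (ε * QW w * polar QW c z) • c)
    {T : Module.End F V} (hT : ∀ x y, T (pt x y) = pt x (M y)) (z : V) :
    (T * T) z = pt ((-(2 * QW w)) • hF.pW c z) c := by
  refine LinearMap.congr_fun (f := T * T) (g := pt.flip c ∘ₗ ((-(2 * QW w)) • hF.pW c)) (hF.ext_pure fun x y => ?_) z
  have Mc : M c = 0 := by simp [hM, polar_sing hc, polar_comm QW w c, hcw]
  have Mw : M w = (2 * QW w) • c := by simp [hM, hcw, polar_self']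
  have e : M (M y) = (-(2 * QW w) * polar QW c y) • c := by
    rw [hM y, map_sub, map_sub, map_smul, map_smul, map_smul, Mc, Mw]
    module
  simp only [Module.End.mul_apply, hT, e, LinearMap.comp_apply, LinearMap.smul_apply, LinearMap.flip_apply, hF.pW_pt,
    map_smul, smul_smul]

namespace Hyp44

variable (hh : Hyp44 Q QU QW pt H)
include hh

theorem ovr : Over pt H := fun g hg hN => hh.norm g hg (Or.inl hN)

theorem carry_left {g : oG Q} (hg : g ∈ H) {c c' : W} (hc0 : c ≠ 0) (hc : QW c = 0) (hc0' : c' ≠ 0) (hc' : QW c' = 0)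
    (hs : ∀ u, ∃ u', g.1 (pt u c) = pt u' c') : g ∈ NS Q pt := by
  have hF := hh.set
  obtain ⟨a, ha, t, -, hat⟩ := exists_eo_point hF.ndW hF.dimW_ge hc0' hc' hc0 hc
  rw [eo_eq_commutator hF.ndW hF.dimW_ge (Or.inl (two_ne_card hF.two))] at ha
  obtain ⟨f, v₁, v₂, hC⟩ := hF.exists_centre' hc0 hc
  have hk : hF.lp (1, a) ∈ H := hh.ovr.lp_memC hF.toCore (one_mem _) ha
  have hkg := mul_mem hk hg
  have hN : InN pt (hF.lp (1, a) * g).1 := hF.inN_of_stab hh.ne hh.ovr hC
    (fun x hx hxN => mul_mem (mul_mem hkg (hh.ovr x hx hxN)) (inv_mem hkg)) fun u => by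
      obtain ⟨u', hu'⟩ := hs u
      exact ⟨t • u', by rw [oG_mul_apply, hu', hF.lp_pt, oG_one_apply, hat, map_smul, map_smul, LinearMap.smul_apply]⟩
  have := mul_mem (inv_mem (show hF.lp (1, a) ∈ NS Q pt from Or.inl (hF.lp_inN _ _)))
    (show hF.lp (1, a) * g ∈ NS Q pt from Or.inl hN)
  rwa [inv_mul_cancel_left] at this

theorem carry_right {g : oG Q} (hg : g ∈ H) {c : W} {p : U} (hc0 : c ≠ 0) (hc : QW c = 0) (hp0 : p ≠ 0)
    (hp : QU p = 0) (hs : ∀ u, ∃ y, g.1 (pt u c) = pt p y) : g ∈ NS Q pt := by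
  have hF := hh.set
  obtain ⟨σ, A, B, hσ⟩ := hh.sw
  have hσ' : ∀ u w, σ.1 (pt u w) = pt (A w) (B u) := fun u w => hσ w u
  have hA0 : A c ≠ 0 := fun e => by
    obtain ⟨u, hu⟩ := exists_aniso hF.ndU (by rw [hF.dimU]; omega : 0 < finrank F U)
    have h1 : σ.1 (pt u c) = 0 := by rw [hσ', e, map_zero, LinearMap.zero_apply]
    have h0 := (LinearEquiv.map_eq_zero_iff σ.1).1 h1
    have hu0 : u ≠ 0 := fun e' => hu (by rw [e', QuadraticMap.map_zero])
    exact hc0 (hF.eq_of_pU hu0 (by rw [h0, map_zero]))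
  have hAq : QU (A c) = 0 := by
    obtain ⟨w, hw⟩ := exists_aniso hF.ndW (by rw [hF.dimW]; omega : 0 < finrank F W)
    have hBinj : Function.Injective B := (injective_iff_map_eq_zero B).2 fun u hu => by
      have h1 : σ.1 (pt u w) = 0 := by rw [hσ', hu, map_zero]
      have hw0 : w ≠ 0 := fun e' => hw (by rw [e', QuadraticMap.map_zero])
      exact hF.flip.eq_of_pU hw0 (by
        rw [LinearMap.flip_apply, LinearMap.flip_apply, (LinearEquiv.map_eq_zero_iff σ.1).1 h1, map_zero,
          LinearMap.zero_apply])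
    have hBsur : Function.Surjective B :=
      (LinearMap.injective_iff_surjective_of_finrank_eq_finrank (by rw [hF.dimU, hF.dimW])).1 hBinj
    obtain ⟨u, rfl⟩ := hBsur w
    have h1 := σ.2 (pt u c)
    rw [hσ', hF.Q_pure, hF.Q_pure, hc, mul_zero, mul_eq_zero, mul_eq_zero] at h1
    exact (h1.resolve_right hw).resolve_left hF.two
  obtain ⟨a, ha, t, -, hat⟩ := exists_eo_point hF.ndU hF.dimU_ge hA0 hAq hp0 hp
  rw [eo_eq_commutator hF.ndU hF.dimU_ge (Or.inl (two_ne_card hF.two))] at ha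
  have hk : hF.lp (a, 1) ∈ H := hh.ovr.lp_memC hF.toCore ha (one_mem _)
  obtain ⟨f, v₁, v₂, hC⟩ := hF.exists_centre' hc0 hc
  -- the preimage of `p ⊗ W`
  obtain ⟨q, -, hpq⟩ := exists_hyp_pair hF.ndU hp0 hp
  let L : U →ₗ[F] W := hF.pU q ∘ₗ g.1.toLinearMap ∘ₗ pt.flip c
  have hL : ∀ u, g.1 (pt u c) = pt p (L u) := fun u => by
    obtain ⟨y, hy⟩ := hs u
    show g.1 (pt u c) = pt p (hF.pU q (g.1 (pt u c)))
    rw [hy, hF.pU_pt, polar_comm QU q p, hpq, one_smul]
  have hLinj : Function.Injective L := fun x y e => hF.pure_inj hC (g.1.injective (by rw [hL, hL, e]))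
  have hLsur : Function.Surjective L :=
    (LinearMap.injective_iff_surjective_of_finrank_eq_finrank (by rw [hF.dimU, hF.dimW])).1 hLinj
  set h := g⁻¹ * hF.lp (a, 1) * σ
  have hgk : g⁻¹ * hF.lp (a, 1) ∈ H := mul_mem (inv_mem hg) hk
  have hσN : σ ∈ NS Q pt := Or.inr ⟨A, B, hσ⟩
  have hN : InN pt h.1 := hF.inN_of_stab hh.ne hh.ovr hC (fun x hx hxN => by
    have hmem : σ * x * σ⁻¹ ∈ H := hh.norm _ (Subgroup.Normal.conj_mem inferInstance _ hx _)
      (mul_mem (mul_mem hσN (show x ∈ NS Q pt from Or.inl hxN)) (inv_mem hσN))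
    have := mul_mem (mul_mem hgk hmem) (inv_mem hgk)
    convert this using 1
    show g⁻¹ * hF.lp (a, 1) * σ * x * (g⁻¹ * hF.lp (a, 1) * σ)⁻¹ = _
    group) fun u => by
      obtain ⟨u', hu'⟩ := hLsur (t • B u)
      refine ⟨u', g.1.injective ?_⟩
      rw [oG_mul_apply, oG_mul_apply, oG_apply_inv, hσ', hF.lp_pt, oG_one_apply, hat, map_smul,
        LinearMap.smul_apply, ← map_smul (pt p), hL, hu']
  have h1 : h * σ⁻¹ * (hF.lp (a, 1))⁻¹ ∈ NS Q pt :=
    mul_mem (mul_mem (show h ∈ NS Q pt from Or.inl hN) (inv_mem hσN)) (inv_mem (Or.inl (hF.lp_inN _ _)))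
  rw [show h * σ⁻¹ * (hF.lp (a, 1))⁻¹ = g⁻¹ by simp only [h]; group] at h1
  simpa using inv_mem h1

/-- an element carrying `U ⊗ c` into the image of the square of a combined map -/
theorem inS_of_square {g : oG Q} (hg : g ∈ H) {c : W} (hc0 : c ≠ 0) (hc : QW c = 0) {ε : F} {N : Module.End F U}
    {M : Module.End F W} (hN : ∀ x y, polar QU (N x) y + polar QU x (N y) + ε * polar QU (N x) (N y) = 0)
    (hNn : ∃ m : ℕ, N ^ m = 0)
    (hM : ∀ x y, polar QW (M x) y + polar QW x (M y) + ε * polar QW (M x) (M y) = 0) (hMn : ∃ m : ℕ, M ^ m = 0)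
    {T : Module.End F V} (hT : ∀ x y, T (pt x y) = pt (N x) y + pt x (M y) + ε • pt (N x) (M y))
    (hin : ∀ z, ∃ u, (T * T) z = g.1 (pt u c)) (hout : ∀ u, ∃ z, (T * T) z = g.1 (pt u c)) : g ∈ NS Q pt := by
  have hF := hh.set
  rcases nil_shape hF.two hF.ndU hF.ellU hN hNn with hN0 | ⟨p, v, hp0, hp, hpv, hv, hNs⟩ <;>
    rcases nil_shape hF.two hF.ndW hF.ellW hM hMn with hM0 | ⟨c', w, hc0', hc', hcw, hw, hMs⟩
  · exfalso
    have hT0 : T = 0 := hF.ext_pure fun x y => by simp [hT, hN0, hM0]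
    obtain ⟨u, hu⟩ := exists_aniso hF.ndU (by rw [hF.dimU]; omega : 0 < finrank F U)
    obtain ⟨z, hz⟩ := hout u
    obtain ⟨f, v₁, v₂, hC⟩ := hF.exists_centre' hc0 hc
    rw [hT0, zero_mul, LinearMap.zero_apply, eq_comm, LinearEquiv.map_eq_zero_iff] at hz
    exact hu (by rw [hF.pure_inj hC (u := u) (u' := 0) (by rw [hz, map_zero, LinearMap.zero_apply]),
      QuadraticMap.map_zero])
  · refine hh.carry_left hg hc0 hc hc0' hc' fun u => ?_
    obtain ⟨z, hz⟩ := hout u
    exact ⟨_, hz.symm.trans (pure_square hF hc' hcw hMs (fun x y => by simp [hT, hN0]) z)⟩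
  · refine hh.carry_right hg hc0 hc hp0 hp fun u => ?_
    obtain ⟨z, hz⟩ := hout u
    exact ⟨_, hz.symm.trans (pure_square hF.flip hp hpv hNs (T := T) (fun x y => by simp [hT, hM0]) z)⟩
  · exfalso
    have h5 := hF.rank_five hp0 hp hpv hv hNs hc0' hc' hcw hw hMs hT
    have h4 : finrank F (LinearMap.range (T * T)) ≤ finrank F U := by
      refine (Submodule.finrank_mono (t := LinearMap.range (g.1.toLinearMap ∘ₗ pt.flip c)) ?_).trans
        (LinearMap.finrank_range_le _)
      rintro _ ⟨z, rfl⟩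
      obtain ⟨u, hu⟩ := hin z
      exact ⟨u, hu.symm⟩
    rw [hF.dimU] at h4
    omega

/-- the key to semiregularity -/
theorem conj_mem {g : oG Q} (hg : g ∈ H) {c v : W} (hc0 : c ≠ 0) (hc : QW c = 0) (hcv : polar QW c v = 0)
    (hv : QW v ≠ 0) (hM : g * hh.set.lp (1, sO hc hcv) * g⁻¹ ∈ NS Q pt) : g ∈ NS Q pt := by
  classical
  have hF := hh.set
  have h2 := hF.two
  obtain ⟨p, hp⟩ := CharP.exists F
  haveI := hp
  have hpp : p.Prime := (CharP.char_is_prime_or_zero F p).resolve_right fun e => by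
    subst e
    haveI := CharP.charP_to_charZero F
    exact not_finite F
  haveI := Fact.mk hpp
  have hpodd : Odd p := hpp.odd_of_ne_two fun e => h2 (by subst e; exact CharP.ofNat_eq_zero F 2)
  set r := hF.lp (1, sO hc hcv) with hr
  set m := g * r * g⁻¹ with hm
  have hmp : m ^ p = 1 := by
    rw [hm, conj_pow, hr, ← map_pow, Prod.pow_mk, one_pow, sO_pow, sO_congr hc _ (by simp [polar] :
      polar QW c (0 : W) = 0) (by simp), sO_zero, ← Prod.one_eq_mk, map_one, mul_one, mul_inv_cancel]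
  -- the element keeps the factors in place
  obtain ⟨k, hk⟩ := hpodd
  have hmm : Maps pt pt (m * m).1 := by
    rcases hM with h | h
    · exact h.comp h
    · exact h.comp h.flip
  have hpow : ∀ n : ℕ, Maps pt pt ((m * m) ^ n).1 := fun n => by
    induction n with
    | zero => rw [pow_zero]; exact OTensor3.maps_one
    | succ n ih => rw [pow_succ]; exact ih.comp hmm
  have hmaps : Maps pt pt m.1 := by
    have := hpow (k + 1)
    rwa [← _root_.sq, ← pow_mul, show 2 * (k + 1) = p + 1 by omega, pow_succ, hmp, one_mul] at this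
  obtain ⟨a, b, hab⟩ := hmaps
  have habn : ∀ (n : ℕ) x y, (m ^ n).1 (pt x y) = pt ((a ^ n : Module.End F U) x) ((b ^ n : Module.End F W) y) := by
    intro n
    induction n with
    | zero => intro x y; rfl
    | succ n ih => intro x y; rw [pow_succ', oG_mul_apply, ih, hab, pow_succ', pow_succ']; rfl
  obtain ⟨y₁, hy₁⟩ := exists_aniso hF.ndW (by rw [hF.dimW]; omega : 0 < finrank F W)
  set y₀ := (2 * QW y₁)⁻¹ • y₁ with hy₀
  have hy : polar QW y₀ y₁ = 1 := by
    rw [hy₀, polar_smul_left, polar_self', smul_eq_mul, inv_mul_cancel₀ (mul_ne_zero h2 hy₁)]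
  set lam := polar QW y₀ ((b ^ p : Module.End F W) y₁) with hlam
  have hap : ∀ x, lam • (a ^ p : Module.End F U) x = x := fun x => by
    have h1 := congrArg (hF.pW y₀) (habn p x y₁)
    rw [hmp, oG_one_apply, hF.pW_pt, hF.pW_pt, hy, one_smul] at h1
    exact h1.symm
  obtain ⟨u₁, hu₁⟩ := exists_aniso hF.ndU (by rw [hF.dimU]; omega : 0 < finrank F U)
  have hu0 : u₁ ≠ 0 := fun e => hu₁ (by rw [e, QuadraticMap.map_zero])
  have hlam0 : lam ≠ 0 := fun e => hu0 (by rw [← hap u₁, e, zero_smul])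
  obtain ⟨μ, hμ⟩ : ∃ μ : F, μ ^ p = lam :=
    (Finite.injective_iff_surjective (f := fun x : F => x ^ p)).1 (frobenius_inj F p) lam
  have hμ0 : μ ≠ 0 := fun e => hlam0 (by rw [← hμ, e, zero_pow hpp.ne_zero])
  set a' : Module.End F U := μ • a with ha'
  set b' : Module.End F W := μ⁻¹ • b with hb'
  have hab' : ∀ x y, m.1 (pt x y) = pt (a' x) (b' y) := fun x y => by
    rw [hab, ha', hb', LinearMap.smul_apply, LinearMap.smul_apply, map_smul, map_smul, LinearMap.smul_apply,
      smul_smul, inv_mul_cancel₀ hμ0, one_smul]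
  have hap' : a' ^ p = 1 := LinearMap.ext fun x => by
    rw [ha', smul_pow, LinearMap.smul_apply, hμ, hap]; rfl
  have hbp' : b' ^ p = 1 := LinearMap.ext fun y => by
    refine hF.eq_of_pU hu0 ?_
    have h1 := habn p u₁ y
    rw [hmp, oG_one_apply] at h1
    rw [hb', smul_pow, LinearMap.smul_apply, inv_pow, hμ, map_smul, show (1 : Module.End F W) y = y from rfl]
    conv_rhs => rw [h1]
    rw [← inv_smul_smul₀ hlam0 ((a ^ p : Module.End F U) u₁), hap, map_smul, LinearMap.smul_apply]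
  have hmul : ∀ x x' y y', polar QU (a' x) (a' x') * polar QW (b' y) (b' y') = polar QU x x' * polar QW y y' :=
    fun x x' y y' => by rw [← hF.prod, ← hab', ← hab', polar_oG, hF.prod]
  set l := polar QW (b' y₀) (b' y₁)
  have hl : ∀ x x', polar QU (a' x) (a' x') * l = polar QU x x' := fun x x' => by rw [hmul, hy, mul_one]
  have hln : ∀ (n : ℕ) x x', polar QU ((a' ^ n) x) ((a' ^ n) x') * l ^ n = polar QU x x' := by
    intro n
    induction n with
    | zero => intro x x'; simp
    | succ n ih =>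
      intro x x'
      rw [pow_succ' a', pow_succ' l, Module.End.mul_apply, Module.End.mul_apply, ← mul_assoc, hl, ih]
  have hl1 : l = 1 := by
    have h1 := hln p u₁ u₁
    rw [hap', Module.End.one_apply, polar_self'] at h1
    have h3 : l ^ p = 1 := mul_left_cancel₀ (mul_ne_zero h2 hu₁) (h1.trans (mul_one _).symm)
    have h4 : (l - 1) ^ p = 0 := by
      haveI : ExpChar F p := ExpChar.prime hpp
      rw [sub_pow_char, h3, one_pow, sub_self]
    exact sub_eq_zero.1 (eq_zero_of_pow_eq_zero h4)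
  have haiso : ∀ x x', polar QU (a' x) (a' x') = polar QU x x' := fun x x' => by
    rw [← hl x x', hl1, mul_one]
  have hbiso : ∀ y y', polar QW (b' y) (b' y') = polar QW y y' := fun y y' => by
    have h1 := hmul u₁ u₁ y y'
    rw [haiso] at h1
    exact mul_left_cancel₀ (by rw [polar_self']; exact mul_ne_zero h2 hu₁) h1
  haveI : Nontrivial U := Module.nontrivial_of_finrank_pos (R := F) (by rw [hF.dimU]; omega)
  haveI : Nontrivial W := Module.nontrivial_of_finrank_pos (R := F) (by rw [hF.dimW]; omega)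
  have hnilU : (a' - 1) ^ p = 0 := by
    haveI : CharP (Module.End F U) p :=
      charP_of_injective_ringHom (R := F) (algebraMap F (Module.End F U)).injective p
    rw [sub_pow_char_of_commute (R := Module.End F U) p (Commute.one_right _), one_pow, hap', sub_self]
  have hnilW : (b' - 1) ^ p = 0 := by
    haveI : CharP (Module.End F W) p :=
      charP_of_injective_ringHom (R := F) (algebraMap F (Module.End F W)).injective p
    rw [sub_pow_char_of_commute (R := Module.End F W) p (Commute.one_right _), one_pow, hbp', sub_self]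
  obtain ⟨f, v₁, v₂, hC⟩ := hF.exists_centre' hc0 hc
  have hsq : ∀ z, ((m.1.toLinearMap - 1) * (m.1.toLinearMap - 1) : Module.End F V) (g.1 z) =
      g.1 ((-(2 * QW v)) • pt (hF.pW c z) c) := fun z => by
    have e : ∀ z, m.1 (g.1 z) = g.1 (r.1 z) := fun z => by rw [hm, oG_mul_apply, oG_mul_apply, oG_inv_apply]
    rw [← hF.sW_sq hc hcv z]
    simp only [Module.End.mul_apply, LinearMap.sub_apply, Module.End.one_apply, LinearEquiv.coe_coe, map_sub, e, ← hr]
  refine hh.inS_of_square hg hc0 hc (ε := 1) (N := a' - 1) (M := b' - 1) ?_ ⟨p, hnilU⟩ ?_ ⟨p, hnilW⟩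
    (T := m.1.toLinearMap - 1) (fun x y => ?_) (fun z => ?_) (fun u => ?_)
  · intro x y
    simp only [LinearMap.sub_apply, Module.End.one_apply, polar_sub_left, polar_sub_right, haiso]
    ring
  · intro x y
    simp only [LinearMap.sub_apply, Module.End.one_apply, polar_sub_left, polar_sub_right, hbiso]
    ring
  · simp only [LinearMap.sub_apply, Module.End.one_apply, LinearEquiv.coe_coe, hab', map_sub, one_smul]
    abel
  · obtain ⟨z, rfl⟩ : ∃ z', g.1 z' = z := ⟨_, oG_apply_inv g z⟩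
    exact ⟨(-(2 * QW v)) • hF.pW c z, by rw [hsq, map_smul pt, LinearMap.smul_apply]⟩
  · refine ⟨g.1 (pt ((-(2 * QW v))⁻¹ • u) f), ?_⟩
    rw [hsq, hF.pW_pt, hC.hcf, one_smul, map_smul pt, LinearMap.smul_apply,
      smul_inv_smul₀ (neg_ne_zero.2 (mul_ne_zero h2 hv))]

end Hyp44

end Cfsg.Agent.ClassicalMax.OTensorFour
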