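import Cfsg.Agent.ClassicalMax.OTensorFour.Conj
import Cfsg.Agent.ClassicalMax.OTensor3.Quartic
import Cfsg.Agent.ClassicalMax.OTensor3.Skew

/-!
`O₄⁻ ⊗ O₄⁻`: the invariant four-linear form of the decomposition and the operators it defines on pairs.
-/

set_option autoImplicit false
set_option linter.unusedSectionVars false
set_option linter.style.haveILetI false
set_option synthInstance.maxSize 512

namespace Cfsg.Agent.ClassicalMax.OTensorFour

open Module QuadraticMap Cfsg.Agent.Classical Cfsg.Agent.Classical.Quad Cfsg.Agent.ClassicalMax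
open Cfsg.Agent.ClassicalMax.OTensor3 (pull pull_apply NS Maps dl dl_apply Sk dl_sk sk_add sk_smul)

variable {F U W V : Type*} [Field F] [Finite F] [AddCommGroup U] [Module F U] [FiniteDimensional F U]
  [AddCommGroup W] [Module F W] [FiniteDimensional F W] [AddCommGroup V] [Module F V] [FiniteDimensional F V]
  {Q : QuadraticForm F V} {QU : QuadraticForm F U} {QW : QuadraticForm F W} {pt : U →ₗ[F] W →ₗ[F] V}

namespace Frame44

variable (hS : Frame44 Q QU QW pt)
include hS

theorem pU_add (u u' : U) (z : V) : hS.pU (u + u') z = hS.pU u z + hS.pU u' z := hS.eqW fun w => by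
  rw [hS.polar_pU, polar_add_left, hS.polar_pU, hS.polar_pU, map_add, LinearMap.add_apply, polar_add_left]

theorem pU_smul (c : F) (u : U) (z : V) : hS.pU (c • u) z = c • hS.pU u z := hS.eqW fun w => by
  rw [hS.polar_pU, polar_smul_left, hS.polar_pU, map_smul, LinearMap.smul_apply, polar_smul_left]

/-- contraction as a map of the vector of the first factor -/
noncomputable def pUm (z : V) : U →ₗ[F] W where
  toFun u := hS.pU u z
  map_add' u u' := hS.pU_add u u' z
  map_smul' c u := hS.pU_smul c u z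

/-- contraction as a map of the vector of the second factor -/
noncomputable def pWm (z : V) : W →ₗ[F] U where
  toFun w := hS.pW w z
  map_add' w w' := hS.eqU fun u => by
    rw [hS.polar_pW, polar_add_left, hS.polar_pW, hS.polar_pW, map_add, polar_add_left]
  map_smul' c w := hS.eqU fun u => by
    rw [RingHom.id_apply, hS.polar_pW, polar_smul_left, hS.polar_pW, map_smul, polar_smul_left]

/-- the contraction of two vectors along the second factor -/
noncomputable def ctr : V →ₗ[F] V →ₗ[F] Module.End F U :=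
  LinearMap.mk₂ F (fun a b => (hS.pWm a).comp (hS.pUm b))
    (fun a a' b => LinearMap.ext fun x => map_add (hS.pW (hS.pU x b)) a a')
    (fun c a b => LinearMap.ext fun x => map_smul (hS.pW (hS.pU x b)) c a)
    (fun a b b' => LinearMap.ext fun x =>
      (congrArg (hS.pWm a) (map_add (hS.pU x) b b')).trans (map_add (hS.pWm a) _ _))
    (fun c a b => LinearMap.ext fun x =>
      (congrArg (hS.pWm a) (map_smul (hS.pU x) c b)).trans (map_smul (hS.pWm a) _ _))

theorem ctr_pt (x y : U) (p r : W) :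
    hS.ctr (pt x p) (pt y r) = (polar QW r p • polarBilin QU y).smulRight x := LinearMap.ext fun z => by
  show hS.pW (hS.pU z (pt y r)) (pt x p) = _
  rw [hS.pU_pt, hS.pW_pt, LinearMap.smulRight_apply, LinearMap.smul_apply, polarBilin_apply_apply, polar_smul_left,
    polar_comm QU z y]
  simp only [smul_eq_mul]
  rw [mul_comm]

/-- the trace of a product of two contractions -/
noncomputable def cq (a b c d : V) : F := LinearMap.trace F U (hS.ctr a b * hS.ctr c d)

theorem cq_pt (x₁ x₂ x₃ x₄ : U) (y₁ y₂ y₃ y₄ : W) : hS.cq (pt x₁ y₁) (pt x₂ y₂) (pt x₃ y₃) (pt x₄ y₄) =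
    polar QW y₁ y₂ * polar QW y₃ y₄ * (polar QU x₂ x₃ * polar QU x₁ x₄) := by
  rw [cq, hS.ctr_pt, hS.ctr_pt]
  have e : ((polar QW y₂ y₁ • polarBilin QU x₂).smulRight x₁ : Module.End F U) *
      (polar QW y₄ y₃ • polarBilin QU x₄).smulRight x₃ =
      (polar QW y₄ y₃ • polarBilin QU x₄).smulRight ((polar QW y₂ y₁ • polarBilin QU x₂) x₃ • x₁) :=
    LinearMap.ext fun z => by
      simp only [Module.End.mul_apply, LinearMap.smulRight_apply, map_smul, smul_smul]
  rw [e, LinearMap.trace_smulRight]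
  simp only [LinearMap.smul_apply, map_smul, polarBilin_apply_apply, smul_eq_mul, polar_comm QW y₂ y₁,
    polar_comm QW y₄ y₃, polar_comm QU x₄ x₁]
  ring

/-- the invariant four-linear form -/
noncomputable def f4 : V →ₗ[F] V →ₗ[F] V →ₗ[F] V →ₗ[F] F :=
  LinearMap.mk₂ F (fun a b => LinearMap.mk₂ F
      (fun c d => hS.cq b a c d - hS.cq b a d c + hS.cq c a b d - hS.cq d a b c)
      (fun c c' d => by simp only [cq, map_add, LinearMap.add_apply, add_mul, mul_add]; ring)
      (fun r c d => by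
        simp only [cq, map_smul, LinearMap.smul_apply, smul_mul_assoc, mul_smul_comm, smul_eq_mul]; ring)
      (fun c d d' => by simp only [cq, map_add, LinearMap.add_apply, add_mul, mul_add]; ring)
      (fun r c d => by
        simp only [cq, map_smul, LinearMap.smul_apply, smul_mul_assoc, mul_smul_comm, smul_eq_mul]; ring))
    (fun a a' b => LinearMap.ext₂ fun c d => by
      simp only [LinearMap.mk₂_apply, LinearMap.add_apply, cq, map_add, add_mul, mul_add]; ring)
    (fun r a b => LinearMap.ext₂ fun c d => by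
      simp only [LinearMap.mk₂_apply, LinearMap.smul_apply, cq, map_smul, smul_mul_assoc, mul_smul_comm, smul_eq_mul]
      ring)
    (fun a b b' => LinearMap.ext₂ fun c d => by
      simp only [LinearMap.mk₂_apply, LinearMap.add_apply, cq, map_add, add_mul, mul_add]; ring)
    (fun r a b => LinearMap.ext₂ fun c d => by
      simp only [LinearMap.mk₂_apply, LinearMap.smul_apply, cq, map_smul, smul_mul_assoc, mul_smul_comm, smul_eq_mul]
      ring)

theorem f4_pt (x₁ x₂ x₃ x₄ : U) (y₁ y₂ y₃ y₄ : W) : hS.f4 (pt x₁ y₁) (pt x₂ y₂) (pt x₃ y₃) (pt x₄ y₄) =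
    polar QW y₁ y₂ * polar QW y₃ y₄ * (polar QU x₁ x₃ * polar QU x₂ x₄ - polar QU x₁ x₄ * polar QU x₂ x₃) +
      polar QU x₁ x₂ * polar QU x₃ x₄ * (polar QW y₁ y₃ * polar QW y₂ y₄ - polar QW y₁ y₄ * polar QW y₂ y₃) := by
  simp only [f4, LinearMap.mk₂_apply, hS.cq_pt, polar_comm QW y₂ y₁, polar_comm QW y₃ y₁, polar_comm QW y₄ y₁,
    polar_comm QW y₄ y₃, polar_comm QU x₄ x₃]
  ring

/-- four-linear maps agreeing on pure tensors are equal -/
theorem ext4 {f g : V →ₗ[F] V →ₗ[F] V →ₗ[F] V →ₗ[F] F}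
    (h : ∀ x₁ x₂ x₃ x₄ y₁ y₂ y₃ y₄, f (pt x₁ y₁) (pt x₂ y₂) (pt x₃ y₃) (pt x₄ y₄) =
      g (pt x₁ y₁) (pt x₂ y₂) (pt x₃ y₃) (pt x₄ y₄)) : f = g :=
  hS.ext_pure fun x₁ y₁ => hS.ext_pure fun x₂ y₂ => hS.ext_pure fun x₃ y₃ => hS.ext_pure fun x₄ y₄ =>
    h x₁ x₂ x₃ x₄ y₁ y₂ y₃ y₄

theorem f4_swap (a b c d : V) : hS.f4 b a c d = -hS.f4 a b c d := by
  have h : hS.f4.flip + hS.f4 = 0 := hS.ext4 fun x₁ x₂ x₃ x₄ y₁ y₂ y₃ y₄ => by
    simp only [LinearMap.flip_apply, LinearMap.add_apply, LinearMap.zero_apply, hS.f4_pt, polar_comm QW y₂ y₁,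
      polar_comm QU x₂ x₁]
    ring
  have h1 := LinearMap.congr_fun (LinearMap.congr_fun (LinearMap.congr_fun₂ h a b) c) d
  simp only [LinearMap.flip_apply, LinearMap.add_apply, LinearMap.zero_apply] at h1
  exact eq_neg_of_add_eq_zero_left h1

/-- the factors of a map of decompositions are similitudes -/
theorem simil {U' W' : Type*} [AddCommGroup U'] [Module F U'] [FiniteDimensional F U'] [AddCommGroup W'] [Module F W']
    [FiniteDimensional F W'] {QU' : QuadraticForm F U'} {QW' : QuadraticForm F W'} {pt' : U' →ₗ[F] W' →ₗ[F] V}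
    (hS' : Frame44 Q QU' QW' pt') {g : oG Q} {a : U' →ₗ[F] U} {b : W' →ₗ[F] W}
    (hab : ∀ x y, g.1 (pt' x y) = pt (a x) (b y)) :
    ∃ ν : F, ν ≠ 0 ∧ (∀ x x', polar QU (a x) (a x') = ν⁻¹ * polar QU' x x') ∧
      ∀ y y', polar QW (b y) (b y') = ν * polar QW' y y' := by
  obtain ⟨e, he0, he⟩ := exists_singular QU' hS'.dimU_ge
  obtain ⟨f, hf, hef⟩ := exists_hyp_pair hS'.ndU he0 he
  obtain ⟨e₂, he₂0, he₂⟩ := exists_singular QW' hS'.dimW_ge
  obtain ⟨f₂, hf₂, hef₂⟩ := exists_hyp_pair hS'.ndW he₂0 he₂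
  have hpol : ∀ x x' y y', polar QU (a x) (a x') * polar QW (b y) (b y') = polar QU' x x' * polar QW' y y' :=
    fun x x' y y' => by rw [← hS.prod, ← hab, ← hab, polar_oG, hS'.prod]
  set ν := polar QW (b e₂) (b f₂)
  have hU : ∀ x x', polar QU (a x) (a x') * ν = polar QU' x x' := fun x x' => by
    rw [hpol, hef₂, mul_one]
  have hν : ν ≠ 0 := fun e0 => one_ne_zero (α := F) (by rw [← hef, ← hU, e0, mul_zero])
  refine ⟨ν, hν, fun x x' => by rw [← hU]; field_simp, fun y y' => ?_⟩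
  have h1 := hpol e f y y'
  have h2 := hU e f
  rw [hef] at h1 h2
  exact mul_left_cancel₀ (left_ne_zero_of_mul_eq_one h2) (by rw [h1, ← mul_assoc, h2])

/-- the stabiliser preserves the form -/
theorem f4_inv {g : oG Q} (hg : g ∈ NS Q pt) : pull hS.f4 g = hS.f4 := by
  rcases hg with ⟨a, b, hab⟩ | ⟨a, b, hab⟩
  · obtain ⟨ν, hν, ha, hb⟩ := hS.simil hS hab
    refine hS.ext4 fun x₁ x₂ x₃ x₄ y₁ y₂ y₃ y₄ => ?_
    simp only [pull_apply, hab, hS.f4_pt, ha, hb]
    field_simp
  · obtain ⟨ν, hν, ha, hb⟩ := hS.simil hS.flip hab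
    have hab' : ∀ x y, g.1 (pt x y) = pt (a y) (b x) := fun x y => hab y x
    refine hS.ext4 fun x₁ x₂ x₃ x₄ y₁ y₂ y₃ y₄ => ?_
    simp only [pull_apply, hab', hS.f4_pt, ha, hb]
    field_simp
    ring

/-- the operator of a pair of vectors -/
noncomputable def opr : V →ₗ[F] V →ₗ[F] Module.End F V :=
  LinearMap.mk₂ F (fun a b => (LinearMap.BilinForm.toDual (polarBilin Q) hS.nd).symm.toLinearMap ∘ₗ (hS.f4 a b))
    (fun a a' b => by rw [map_add, LinearMap.add_apply, LinearMap.comp_add])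
    (fun c a b => by rw [map_smul, LinearMap.smul_apply, LinearMap.comp_smul])
    (fun a b b' => by rw [map_add, LinearMap.comp_add])
    (fun c a b => by rw [map_smul, LinearMap.comp_smul])

theorem polar_opr (a b c d : V) : polar Q (hS.opr a b c) d = hS.f4 a b c d := by
  show polarBilin Q _ d = _
  simp only [opr, LinearMap.mk₂_apply, LinearMap.comp_apply, LinearEquiv.coe_coe,
    LinearMap.BilinForm.apply_toDual_symm_apply]

theorem eqV {x y : V} (h : ∀ d, polar Q x d = polar Q y d) : x = y :=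
  sub_eq_zero.1 (hS.nd.1 _ fun d => by
    show polar Q (x - y) d = 0
    rw [polar_sub_left, h, sub_self])

theorem opr_pt (x₁ x₂ : U) (y₁ y₂ : W) (x : U) (y : W) : hS.opr (pt x₁ y₁) (pt x₂ y₂) (pt x y) =
    pt ((polar QW y₁ y₂ • dl QU x₁ x₂) x) y + pt x ((polar QU x₁ x₂ • dl QW y₁ y₂) y) := by
  refine hS.eqV fun d => LinearMap.congr_fun (f := hS.f4 (pt x₁ y₁) (pt x₂ y₂) (pt x y) ∘ₗ LinearMap.id)
    (g := polarBilin Q (pt ((polar QW y₁ y₂ • dl QU x₁ x₂) x) y + pt x ((polar QU x₁ x₂ • dl QW y₁ y₂) y)))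
    (hS.ext_pure fun x' y' => ?_) d |> (hS.polar_opr _ _ _ _).trans
  show hS.f4 (pt x₁ y₁) (pt x₂ y₂) (pt x y) (pt x' y') = polar Q _ (pt x' y')
  simp only [hS.f4_pt, polar_add_left, hS.prod, LinearMap.smul_apply, dl_apply, polar_smul_left, polar_sub_left,
    smul_eq_mul]
  ring

/-- the operators of pairs are sums of skew maps of the factors -/
theorem opr_mem (a b : V) : ∃ (L : Module.End F U) (R : Module.End F W), Sk QU L ∧ Sk QW R ∧
    ∀ x y, hS.opr a b (pt x y) = pt (L x) y + pt x (R y) := by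
  let S : Submodule F (Module.End F V) :=
    { carrier := {T | ∃ (L : Module.End F U) (R : Module.End F W), Sk QU L ∧ Sk QW R ∧
        ∀ x y, T (pt x y) = pt (L x) y + pt x (R y)}
      zero_mem' := ⟨0, 0, fun x y => by simp, fun x y => by simp, fun x y => by simp⟩
      add_mem' := fun {T T'} ⟨L, R, hL, hR, h⟩ ⟨L', R', hL', hR', h'⟩ => ⟨L + L', R + R', sk_add hL hL',
        sk_add hR hR', fun x y => by
          simp only [LinearMap.add_apply, h, h', map_add]
          abel⟩
      smul_mem' := fun c T ⟨L, R, hL, hR, h⟩ => ⟨c • L, c • R, sk_smul hL c, sk_smul hR c, fun x y => by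
          simp only [LinearMap.smul_apply, h, map_smul, smul_add]⟩ }
  have h0 : hS.opr.compr₂ S.mkQ = 0 := hS.ext_pure fun x₁ y₁ => hS.ext_pure fun x₂ y₂ => by
    show S.mkQ (hS.opr (pt x₁ y₁) (pt x₂ y₂)) = 0
    rw [Submodule.mkQ_apply, Submodule.Quotient.mk_eq_zero]
    exact ⟨_, _, sk_smul (dl_sk _ _) _, sk_smul (dl_sk _ _) _, hS.opr_pt x₁ x₂ y₁ y₂⟩
  exact (Submodule.Quotient.mk_eq_zero S).1 (LinearMap.congr_fun₂ h0 a b)

end Frame44

end Cfsg.Agent.ClassicalMax.OTensorFour
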