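import Cfsg.Agent.ClassicalMax.OTensorFour.Stab

/-!
`O₄⁻ ⊗ O₄⁻`: nilpotent parts of isometries and skew maps of one factor, and the square of a combined one: if both
factors take part, its image has dimension at least five.
-/

set_option autoImplicit false
set_option linter.unusedSectionVars false
set_option linter.style.haveILetI false

namespace Cfsg.Agent.ClassicalMax.OTensorFour

open Module QuadraticMap Cfsg.Agent.Classical Cfsg.Agent.Classical.Quad Cfsg.Agent.ClassicalMax
open Cfsg.Agent.ClassicalMax.OTensor (Core InN Over polar_sing mem_line_of_perp)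

variable {F : Type*} [Field F] [Finite F]

/-- a nilpotent map that is skew up to the product of the images -/
theorem nil_shape {X : Type*} [AddCommGroup X] [Module F X] [FiniteDimensional F X] {R : QuadraticForm F X}
    (h2 : (2 : F) ≠ 0) (hR : (polarBilin R).Nondegenerate)
    (hell : ∀ c y, R c = 0 → R y = 0 → polar R c y = 0 → c ≠ 0 → y ∈ F ∙ c) {ε : F} {N : Module.End F X}
    (hrel : ∀ x y, polar R (N x) y + polar R x (N y) + ε * polar R (N x) (N y) = 0) (hnil : ∃ m : ℕ, N ^ m = 0) :
    N = 0 ∨ ∃ p v, p ≠ 0 ∧ R p = 0 ∧ polar R p v = 0 ∧ R v ≠ 0 ∧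
      ∀ z, N z = polar R v z • p - polar R p z • v - (ε * R v * polar R p z) • p := by
  classical
  by_cases hN : N = 0
  · exact Or.inl hN
  refine Or.inr ?_
  have hm := Nat.find_spec hnil
  obtain ⟨m, hme⟩ : ∃ m, Nat.find hnil = m + 1 := by
    refine Nat.exists_eq_add_one.2 (Nat.pos_of_ne_zero fun e => hN ?_)
    rw [e, pow_zero] at hm
    calc N = N * 1 := (mul_one N).symm
      _ = 0 := by rw [hm, mul_zero]
  rw [hme] at hm
  have hm1 : N ^ m ≠ 0 := Nat.find_min hnil (by omega)
  obtain ⟨x₀, hx₀⟩ : ∃ x, (N ^ m) x ≠ 0 := by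
    by_contra! h
    exact hm1 (LinearMap.ext h)
  set p := (N ^ m) x₀
  have hNp : N p = 0 := by
    show (N * N ^ m) x₀ = 0
    rw [← pow_succ', hm]; rfl
  have hperp : ∀ x, polar R p (N x) = 0 := fun x => by
    have := hrel p x
    rw [hNp] at this
    simpa [polar] using this
  have hp : R p = 0 := by
    obtain ⟨j, hj⟩ : ∃ j, m = j + 1 := by
      refine Nat.exists_eq_add_one.2 (Nat.pos_of_ne_zero fun e => hN ?_)
      rw [e, zero_add, pow_one] at hm
      exact hm
    have e : p = N ((N ^ j) x₀) := by
      show (N ^ m) x₀ = (N * N ^ j) x₀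
      rw [hj, pow_succ']
    have := hperp ((N ^ j) x₀)
    rw [← e, polar_self', mul_eq_zero] at this
    exact this.resolve_left h2
  have hmid : ∀ x, polar R p x = 0 → N x ∈ F ∙ p := by
    intro x hx
    by_contra hne
    have hex : ∃ j : ℕ, (N ^ j) (N x) ∈ F ∙ p := ⟨m + 1, by rw [hm]; exact Submodule.zero_mem _⟩
    have hj := Nat.find_spec hex
    obtain ⟨j, hje⟩ : ∃ j, Nat.find hex = j + 1 := by
      refine Nat.exists_eq_add_one.2 (Nat.pos_of_ne_zero fun e => hne ?_)
      rw [e, pow_zero] at hj
      exact hj
    rw [hje] at hj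
    have hw : (N ^ j) (N x) ∉ F ∙ p := Nat.find_min hex (by omega)
    set y := (N ^ j) x with hy
    have ey : (N ^ j) (N x) = N y := by
      show (N ^ j * N) x = (N * N ^ j) x
      rw [← pow_succ, ← pow_succ']
    rw [ey] at hw
    have hpy : polar R p y = 0 := by
      rcases Nat.eq_zero_or_pos j with e | e
      · rw [hy, e, pow_zero]; exact hx
      · obtain ⟨i, rfl⟩ := Nat.exists_eq_add_one.2 e
        rw [hy, show (N ^ (i + 1)) x = N ((N ^ i) x) by rw [pow_succ']; rfl]
        exact hperp _
    obtain ⟨α, hα⟩ : ∃ α : F, α • p = N (N y) := by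
      have e : (N ^ (j + 1)) (N x) = N (N y) := by
        rw [pow_succ', ← ey]; rfl
      exact Submodule.mem_span_singleton.1 (e ▸ hj)
    have h1 := hrel y (N y)
    rw [← hα, polar_smul_right, polar_smul_right, polar_comm R y p, hpy, polar_comm R (N y) p, hperp,
      polar_self', smul_zero, mul_zero, add_zero, add_zero, mul_eq_zero] at h1
    exact hw (hell p (N y) hp (h1.resolve_left h2) (hperp y) hx₀)
  obtain ⟨g, hg, hpg⟩ := exists_hyp_pair hR hx₀ hp
  obtain ⟨w, hw⟩ : ∃ w, w = N g + (-polar R g (N g)) • p := ⟨_, rfl⟩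
  have hpw : polar R p w = 0 := by
    rw [hw, polar_add_right, polar_smul_right, hperp, polar_sing hp, smul_zero, add_zero]
  have hgw : polar R g w = 0 := by
    rw [hw, polar_add_right, polar_smul_right, polar_comm R g p, hpg, smul_eq_mul]; ring
  set γ := polar R g (N g) with hγd
  have hNg : N g = w + γ • p := by rw [hw]; module
  have hγ : γ + ε * R w = 0 := by
    have h1 := hrel g g
    rw [hNg] at h1
    simp only [polar_add_left, polar_add_right, polar_smul_left, polar_smul_right, polar_comm R w p, hpw,
      polar_sing hp, polar_comm R p g ▸ hpg, polar_comm R w g, hgw, polar_self', hpg, map_add_smul, hp,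
      smul_eq_mul] at h1
    exact mul_left_cancel₀ h2 (show 2 * (γ + ε * R w) = 2 * 0 by rw [mul_zero]; linear_combination h1)
  have hx : ∀ x, polar R p x = 0 → N x = (-polar R w x) • p := by
    intro x hx'
    obtain ⟨a, ha⟩ := Submodule.mem_span_singleton.1 (hmid x hx')
    have h1 := hrel x g
    rw [hNg, ← ha] at h1
    simp only [polar_add_right, polar_smul_left, polar_smul_right, hpg, hpw, polar_sing hp, polar_comm R x p, hx',
      smul_eq_mul, mul_zero, add_zero, mul_one, polar_comm R x w] at h1
    rw [← ha, show a = -polar R w x by linear_combination h1]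
  have hform : ∀ z, N z = polar R (-w) z • p - polar R p z • (-w) - (ε * R (-w) * polar R p z) • p := by
    intro z
    obtain ⟨x, hxd⟩ : ∃ x, x = z - polar R p z • g := ⟨_, rfl⟩
    have hpx : polar R p x = 0 := by
      rw [hxd, polar_sub_right, polar_smul_right, hpg, smul_eq_mul, mul_one, sub_self]
    have e1 := hx x hpx
    rw [hxd, map_sub, map_smul, hNg, sub_eq_iff_eq_add, polar_sub_right, polar_smul_right, polar_comm R w g, hgw,
      smul_zero, sub_zero] at e1
    rw [e1, polar_neg_left, QuadraticMap.map_neg, show γ = -(ε * R w) by linear_combination hγ]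
    module
  have hw0 : R w ≠ 0 := fun h0 => by
    obtain ⟨r, hr⟩ := Submodule.mem_span_singleton.1 (hell p w hp h0 hpw hx₀)
    rw [← hr, polar_smul_right, polar_comm R g p, hpg, smul_eq_mul, mul_one] at hgw
    refine hN (LinearMap.ext fun z => ?_)
    rw [hform, ← hr, hgw]
    simp [polar]
  refine ⟨p, -w, hx₀, hp, ?_, by rwa [QuadraticMap.map_neg], hform⟩
  rw [polar_neg_right, hpw, neg_zero]

variable {U W V : Type*} [AddCommGroup U] [Module F U] [FiniteDimensional F U]
  [AddCommGroup W] [Module F W] [FiniteDimensional F W] [AddCommGroup V] [Module F V] [FiniteDimensional F V]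
  {Q : QuadraticForm F V} {QU : QuadraticForm F U} {QW : QuadraticForm F W} {pt : U →ₗ[F] W →ₗ[F] V}

namespace Frame44

variable (hF : Frame44 Q QU QW pt)
include hF

/-- with both factors the square has image of dimension at least five -/
theorem rank_five {ε : F} {N : Module.End F U} {M : Module.End F W} {p v : U} {c w : W} (hp0 : p ≠ 0)
    (hp : QU p = 0) (hpv : polar QU p v = 0) (hv : QU v ≠ 0)
    (hN : ∀ z, N z = polar QU v z • p - polar QU p z • v - (ε * QU v * polar QU p z) • p) (hc0 : c ≠ 0)
    (hc : QW c = 0) (hcw : polar QW c w = 0) (hw : QW w ≠ 0)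
    (hM : ∀ z, M z = polar QW w z • c - polar QW c z • w - (ε * QW w * polar QW c z) • c)
    {T : Module.End F V} (hT : ∀ x y, T (pt x y) = pt (N x) y + pt x (M y) + ε • pt (N x) (M y)) :
    5 ≤ finrank F (LinearMap.range (T * T)) := by
  have h2 := hF.two
  obtain ⟨g, x, hC⟩ := hF.flip.exists_centre hp0 hp hpv hv
  obtain ⟨f, y, hD⟩ := hF.exists_centre hc0 hc hcw hw
  have Np : N p = 0 := by simp [hN, polar_sing hp, polar_comm QU v p, hpv]
  have Nv : N v = (2 * QU v) • p := by simp [hN, hpv, polar_self']
  have Nx : N x = 0 := by simp [hN, hC.c2, hC.h12]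
  have Ng : N g = -v - (ε * QU v) • p := by simp [hN, hC.hcf, polar_comm QU v g, hC.f1]
  have Mc : M c = 0 := by simp [hM, polar_sing hc, polar_comm QW w c, hcw]
  have Mw : M w = (2 * QW w) • c := by simp [hM, hcw, polar_self']
  have My : M y = 0 := by simp [hM, hD.c2, hD.h12]
  have Mf : M f = -w - (ε * QW w) • c := by simp [hM, hD.hcf, polar_comm QW w f, hD.f1]
  let S := T * T
  have i1 : S (pt g y) = (-(2 * QU v)) • pt p y := by
    simp only [S, Module.End.mul_apply, hT, Ng, Nv, Np, My, map_add, map_sub, map_neg, map_smul, map_zero, smul_zero,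
      add_zero, zero_add, sub_zero, LinearMap.sub_apply, LinearMap.neg_apply, LinearMap.smul_apply,
      LinearMap.zero_apply]
    module
  have i2 : S (pt x f) = (-(2 * QW w)) • pt x c := by
    simp only [S, Module.End.mul_apply, hT, Mf, Mw, Mc, Nx, map_add, map_sub, map_neg, map_smul, map_zero, smul_zero,
      add_zero, zero_add, sub_zero, LinearMap.sub_apply, LinearMap.neg_apply, LinearMap.smul_apply,
      LinearMap.zero_apply]
    module
  have i3 : S (pt g c) = (-(2 * QU v)) • pt p c := by
    simp only [S, Module.End.mul_apply, hT, Ng, Nv, Np, Mc, map_add, map_sub, map_neg, map_smul, map_zero, smul_zero,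
      add_zero, zero_add, sub_zero, LinearMap.sub_apply, LinearMap.neg_apply, LinearMap.smul_apply,
      LinearMap.zero_apply]
    module
  have i4 : S (pt g w) = (-(2 * QU v)) • pt p w + (-(4 * QW w)) • pt v c +
      (-(12 * ε * QU v * QW w)) • pt p c := by
    simp only [S, Module.End.mul_apply, hT, Ng, Nv, Np, Mw, Mc, map_add, map_sub, map_neg, map_smul, map_zero,
      smul_zero, add_zero, zero_add, sub_zero, LinearMap.sub_apply, LinearMap.neg_apply, LinearMap.smul_apply,
      LinearMap.zero_apply, LinearMap.add_apply]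
    module
  have hli : LinearIndependent F ![S (pt g y), S (pt x f), S (pt g c), S (pt g w), S (pt g f)] := by
    rw [Fintype.linearIndependent_iff]
    intro s hs
    simp only [Fin.sum_univ_five, Matrix.cons_val, i1, i2, i3, i4] at hs
    have i5 : polar Q (pt v w) (S (pt g f)) = 2 * (2 * QU v * (2 * QW w)) := by
      simp only [S, Module.End.mul_apply, hT, Ng, Nv, Np, Mf, Mw, Mc, map_add, map_sub, map_neg, map_smul, map_zero,
        smul_zero, add_zero, zero_add, sub_zero, LinearMap.sub_apply, LinearMap.neg_apply, LinearMap.smul_apply,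
        LinearMap.zero_apply, LinearMap.add_apply, polar_add_right, polar_sub_right, polar_neg_right, polar_smul_right,
        hF.prod, polar_self', polar_comm QU v p, hpv, polar_comm QU v g, hC.f1, polar_comm QW w c, hcw,
        polar_comm QW w f, hD.f1, polar_zero_right, smul_eq_mul]
      ring
    have e5 := congrArg (polar Q (pt v w)) hs
    simp only [polar_add_right, polar_smul_right, i5, hF.prod, polar_comm QU v p, hpv, polar_comm QW w c, hcw,
      hC.h12, smul_eq_mul, mul_zero, zero_mul, add_zero, zero_add, polar_zero_right, mul_eq_zero, h2, hv, hw,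
      or_false] at e5
    rw [e5, zero_smul, add_zero] at hs
    have e4 := congrArg (polar Q (pt g w)) hs
    simp only [polar_add_right, polar_smul_right, hF.prod, polar_comm QU g p, hC.hcf, hC.f1, hC.f2, polar_self',
      polar_comm QW w c, hcw, hD.h12, smul_eq_mul, mul_zero, zero_mul, add_zero, zero_add, polar_zero_right,
      mul_eq_zero, h2, hv, hw, neg_eq_zero, one_ne_zero, or_false] at e4
    rw [e4, zero_smul, add_zero] at hs
    have e1 := congrArg (polar Q (pt g y)) hs
    simp only [polar_add_right, polar_smul_right, hF.prod, polar_comm QU g p, hC.hcf, hC.f2, polar_self',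
      polar_comm QW y c, hD.c2, smul_eq_mul, mul_zero, zero_mul, add_zero, zero_add, polar_zero_right,
      mul_eq_zero, h2, hv, hD.q2, neg_eq_zero, one_ne_zero, or_false] at e1
    have e2 := congrArg (polar Q (pt x f)) hs
    simp only [polar_add_right, polar_smul_right, hF.prod, polar_comm QU x p, hC.c2, polar_self',
      polar_comm QW f c, hD.hcf, smul_eq_mul, mul_zero, zero_mul, add_zero, zero_add, polar_zero_right,
      mul_eq_zero, h2, hw, hC.q2, neg_eq_zero, one_ne_zero, or_false] at e2
    rw [e1, e2, zero_smul, zero_smul, zero_add, zero_add] at hs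
    have e3 := congrArg (polar Q (pt g f)) hs
    simp only [polar_smul_right, hF.prod, polar_comm QU g p, hC.hcf, polar_comm QW f c, hD.hcf, smul_eq_mul,
      polar_zero_right, mul_eq_zero, h2, hv, neg_eq_zero, one_ne_zero, or_false] at e3
    intro i
    fin_cases i <;> assumption
  have h5 := finrank_span_eq_card hli
  rw [Fintype.card_fin] at h5
  refine h5.symm.le.trans (Submodule.finrank_mono (Submodule.span_le.2 ?_))
  rintro _ ⟨i, rfl⟩
  fin_cases i <;> exact ⟨_, rfl⟩

end Frame44

end Cfsg.Agent.ClassicalMax.OTensorFour
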