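import Cfsg.Agent.ClassicalMax.OTensor.Skew

/-!
An orthogonal tensor decomposition `O₄⁻ ⊗ O₄⁻`: the radical of the stabiliser of the singular subspace `U ⊗ c`, the
commutator of two of its elements.
-/

set_option autoImplicit false
set_option linter.unusedSectionVars false
set_option linter.style.haveILetI false

namespace Cfsg.Agent.ClassicalMax.OTensorFour

open Module QuadraticMap Cfsg.Agent.Classical Cfsg.Agent.Classical.Quad Cfsg.Agent.ClassicalMax
open Cfsg.Agent.ClassicalMax.OTensor (Core InN Over polar_sing)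

variable {F U W V : Type*} [Field F] [Finite F] [AddCommGroup U] [Module F U] [FiniteDimensional F U]
  [AddCommGroup W] [Module F W] [FiniteDimensional F W] [AddCommGroup V] [Module F V] [FiniteDimensional F V]
  {Q : QuadraticForm F V} {QU : QuadraticForm F U} {QW : QuadraticForm F W} {pt : U →ₗ[F] W →ₗ[F] V}
  {H : Subgroup (oG Q)}

/-- a decomposition with two factors of dimension four, both without singular planes -/
structure Frame44 (Q : QuadraticForm F V) (QU : QuadraticForm F U) (QW : QuadraticForm F W)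
    (pt : U →ₗ[F] W →ₗ[F] V) : Prop extends Core Q QU QW pt where
  dimU : finrank F U = 4
  dimW : finrank F W = 4
  ellU : ∀ c y, QU c = 0 → QU y = 0 → polar QU c y = 0 → c ≠ 0 → y ∈ F ∙ c
  ellW : ∀ c y, QW c = 0 → QW y = 0 → polar QW c y = 0 → c ≠ 0 → y ∈ F ∙ c

/-- a hyperbolic pair of the second factor with an orthogonal basis of its complement -/
structure Centre (QW : QuadraticForm F W) (c f v₁ v₂ : W) : Prop where
  hc : QW c = 0
  hf : QW f = 0
  hcf : polar QW c f = 1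
  c1 : polar QW c v₁ = 0
  c2 : polar QW c v₂ = 0
  f1 : polar QW f v₁ = 0
  f2 : polar QW f v₂ = 0
  h12 : polar QW v₁ v₂ = 0
  q1 : QW v₁ ≠ 0
  q2 : QW v₂ ≠ 0
  expand : ∀ x, x = polar QW f x • c + polar QW c x • f + ((2 * QW v₁)⁻¹ * polar QW v₁ x) • v₁ +
    ((2 * QW v₂)⁻¹ * polar QW v₂ x) • v₂

namespace Frame44

variable (hF : Frame44 Q QU QW pt)
include hF

/-- orthogonality relations determine the expansion of a centre -/
theorem mk_centre {c f v w : W} (hc : QW c = 0) (hf : QW f = 0) (hcf : polar QW c f = 1) (hcv : polar QW c v = 0)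
    (hcw : polar QW c w = 0) (hfv : polar QW f v = 0) (hfw : polar QW f w = 0) (hvw : polar QW v w = 0)
    (hv : QW v ≠ 0) (hwq : QW w ≠ 0) : Centre QW c f v w := by
  have h2 := hF.two
  refine ⟨hc, hf, hcf, hcv, hcw, hfv, hfw, hvw, hv, hwq, fun x => ?_⟩
  have hli : LinearIndependent F ![c, f, v, w] := by
    rw [Fintype.linearIndependent_iff]
    intro g hg
    simp only [Fin.sum_univ_four, Matrix.cons_val] at hg
    have e0 := congrArg (polar QW f) hg
    have e1 := congrArg (polar QW c) hg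
    have e2 := congrArg (polar QW v) hg
    have e3 := congrArg (polar QW w) hg
    simp only [polar_add_right, polar_smul_right, smul_eq_mul, polar_zero_right, polar_self', hc, hf, hcf,
      polar_comm QW f c, hcv, hcw, hfv, hfw, hvw, polar_comm QW v c, polar_comm QW v f, polar_comm QW w c,
      polar_comm QW w f, polar_comm QW w v, mul_zero, mul_one, zero_add, add_zero, mul_eq_zero, h2, hv, hwq,
      false_or, or_false] at e0 e1 e2 e3
    intro i
    fin_cases i <;> assumption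
  refine hF.eqW fun z => ?_
  have hz : z ∈ Submodule.span F (Set.range ![c, f, v, w]) := by
    have : Submodule.span F (Set.range ![c, f, v, w]) = ⊤ :=
      hli.span_eq_top_of_card_eq_finrank (by rw [Fintype.card_fin, hF.dimW])
    rw [this]
    exact Submodule.mem_top
  obtain ⟨g, rfl⟩ := (Submodule.mem_span_range_iff_exists_fun _).1 hz
  simp only [Fin.sum_univ_four, Matrix.cons_val, polar_add_right, polar_smul_right, polar_add_left, polar_smul_left,
    polar_self', hc, hf, hcf, polar_comm QW f c, hcv, hcw, hfv, hfw, hvw, polar_comm QW v c, polar_comm QW v f,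
    polar_comm QW w c, polar_comm QW w f, polar_comm QW w v, polar_comm QW x c, polar_comm QW x f, polar_comm QW x v,
    polar_comm QW x w, smul_eq_mul, mul_zero, mul_one, zero_add, add_zero]
  field_simp

/-- a singular vector and an orthogonal anisotropic one extend to a centre -/
theorem exists_centre {c v : W} (hc0 : c ≠ 0) (hc : QW c = 0) (hcv : polar QW c v = 0) (hv : QW v ≠ 0) :
    ∃ f v₂, Centre QW c f v v₂ := by
  have h2 := hF.two
  obtain ⟨f₀, hvf, hcf₀⟩ := exists_perp hF.ndW (S := F ∙ v) (x := c) (fun hm => by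
    obtain ⟨r, rfl⟩ := Submodule.mem_span_singleton.1 hm
    rw [Quad.map_smul', mul_eq_zero, mul_self_eq_zero] at hc
    exact hc0 (by rw [hc.resolve_right hv, zero_smul]))
  have hvf₀ : polar QW v f₀ = 0 := hvf v (Submodule.mem_span_singleton_self v)
  set f := f₀ + (-QW f₀) • c with hfd
  have hf : QW f = 0 := by rw [hfd, map_add_smul, hc, polar_comm QW f₀ c, hcf₀]; ring
  have hcf : polar QW c f = 1 := by rw [hfd, polar_add_right, polar_smul_right, polar_sing hc, hcf₀, smul_zero, add_zero]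
  have hfv : polar QW f v = 0 := by
    rw [hfd, polar_add_left, polar_smul_left, hcv, polar_comm QW f₀ v, hvf₀, smul_zero, add_zero]
  let L : W →ₗ[F] F × F × F := (polarBilin QW c).prod ((polarBilin QW f).prod (polarBilin QW v))
  obtain ⟨w, hw, hw0⟩ := Submodule.exists_mem_ne_zero_of_ne_bot (p := LinearMap.ker L) fun e => by
    have h3 := L.finrank_range_add_finrank_ker
    have h4 := Submodule.finrank_le (LinearMap.range L)
    rw [finrank_prod, finrank_prod, finrank_self] at h4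
    rw [e, finrank_bot, hF.dimW] at h3
    omega
  have hw' := LinearMap.mem_ker.1 hw
  simp only [L, LinearMap.prod_apply, Function.prod_apply, Prod.mk_eq_zero, polarBilin_apply_apply] at hw'
  obtain ⟨hcw, hfw, hvw⟩ := hw'
  have hwq : QW w ≠ 0 := fun h0 => by
    obtain ⟨r, hr⟩ := Submodule.mem_span_singleton.1 (hF.ellW c w hc h0 hcw hc0)
    rw [← hr, polar_smul_right, polar_comm QW f c, hcf, smul_eq_mul, mul_one] at hfw
    exact hw0 (by rw [← hr, hfw, zero_smul])
  exact ⟨f, w, hF.mk_centre hc hf hcf hcv hcw hfv hfw hvw hv hwq⟩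

/-- the element lies in the radical of the stabiliser of `U ⊗ c` -/
def InQ (_hF : Frame44 Q QU QW pt) (c : W) (n : oG Q) : Prop :=
  (∀ u, n.1 (pt u c) = pt u c) ∧ ∀ z, _hF.pW c z = 0 → ∃ u, n.1 z = z + pt u c

/-- the component at `v` -/
noncomputable def bq (f : W) (n : oG Q) (v : W) : U →ₗ[F] U :=
  hF.pW f ∘ₗ (n.1.toLinearMap - LinearMap.id) ∘ₗ pt.flip v

theorem bq_apply (f : W) (n : oG Q) (v : W) (u : U) :
    hF.bq f n v u = hF.pW f (n.1 (pt u v)) - polar QW f v • u := by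
  rw [bq, LinearMap.comp_apply, LinearMap.comp_apply, LinearMap.sub_apply, LinearMap.flip_apply, LinearMap.id_apply,
    LinearEquiv.coe_coe, map_sub, hF.pW_pt]

theorem bq_add (f : W) (n : oG Q) (v w : W) : hF.bq f n (v + w) = hF.bq f n v + hF.bq f n w :=
  LinearMap.ext fun u => by
    simp only [bq, LinearMap.comp_apply, LinearMap.add_apply, LinearMap.flip_apply, map_add]

theorem bq_smul (f : W) (n : oG Q) (a : F) (v : W) : hF.bq f n (a • v) = a • hF.bq f n v :=
  LinearMap.ext fun u => by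
    simp only [bq, LinearMap.comp_apply, LinearMap.smul_apply, LinearMap.flip_apply, map_smul]

variable {c f v₁ v₂ : W}

theorem perp_apply (hC : Centre QW c f v₁ v₂) {n : oG Q} (hn : hF.InQ c n) {v : W} (hcv : polar QW c v = 0) (u : U) :
    n.1 (pt u v) = pt u v + pt (hF.bq f n v u) c := by
  obtain ⟨u', hu'⟩ := hn.2 (pt u v) (by rw [hF.pW_pt, hcv, zero_smul])
  rw [hu', hF.bq_apply, hu', map_add, hF.pW_pt, hF.pW_pt, polar_comm QW f c, hC.hcf, one_smul, add_sub_cancel_left]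

theorem pW_c_apply {n : oG Q} (hn : hF.InQ c n) (z : V) : hF.pW c (n.1 z) = hF.pW c z := hF.eqU fun u => by
  rw [hF.polar_pW, hF.polar_pW]
  conv_lhs => rw [← hn.1 u]
  rw [polar_oG]

/-- the adjoint of a component -/
theorem pW_v_apply (hC : Centre QW c f v₁ v₂) {n : oG Q} (hn : hF.InQ c n) {v : W} (hcv : polar QW c v = 0)
    (hfv : polar QW f v = 0) (u u' : U) :
    polar QU (hF.pW v (n.1 (pt u f))) u' = -polar QU u (hF.bq f n v u') := by
  rw [hF.polar_pW]
  have h1 : polar Q (n.1 (pt u' v)) (n.1 (pt u f)) = 0 := by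
    rw [polar_oG, hF.prod, polar_comm QW v f, hfv, mul_zero]
  rw [hF.perp_apply hC hn hcv, polar_add_left] at h1
  have h3 : polar Q (pt (hF.bq f n v u') c) (n.1 (pt u f)) = polar QU (hF.bq f n v u') u := by
    conv_lhs => rw [← hn.1, polar_oG, hF.prod, hC.hcf, mul_one]
  rw [h3, polar_comm QU _ u] at h1
  linear_combination h1

theorem decomp (hC : Centre QW c f v₁ v₂) (z : V) :
    z = pt (hF.pW f z) c + pt (hF.pW c z) f + (2 * QW v₁)⁻¹ • pt (hF.pW v₁ z) v₁ +
      (2 * QW v₂)⁻¹ • pt (hF.pW v₂ z) v₂ := by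
  refine LinearMap.congr_fun (f := LinearMap.id) (g := pt.flip c ∘ₗ hF.pW f + pt.flip f ∘ₗ hF.pW c +
    (2 * QW v₁)⁻¹ • (pt.flip v₁ ∘ₗ hF.pW v₁) + (2 * QW v₂)⁻¹ • (pt.flip v₂ ∘ₗ hF.pW v₂))
    (hF.ext_pure fun u x => ?_) z
  simp only [LinearMap.id_apply, LinearMap.add_apply, LinearMap.smul_apply, LinearMap.comp_apply,
    LinearMap.flip_apply, hF.pW_pt, map_smul, LinearMap.smul_apply, smul_smul]
  conv_lhs => rw [hC.expand x]
  rw [map_add, map_add, map_add, map_smul, map_smul, map_smul, map_smul]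

theorem apply_eq (hC : Centre QW c f v₁ v₂) {n : oG Q} (hn : hF.InQ c n) (z : V) :
    n.1 z = pt (hF.pW f z) c + n.1 (pt (hF.pW c z) f) + (2 * QW v₁)⁻¹ • pt (hF.pW v₁ z) v₁ +
      (2 * QW v₂)⁻¹ • pt (hF.pW v₂ z) v₂ + ((2 * QW v₁)⁻¹ • pt (hF.bq f n v₁ (hF.pW v₁ z)) c +
      (2 * QW v₂)⁻¹ • pt (hF.bq f n v₂ (hF.pW v₂ z)) c) := by
  conv_lhs => rw [hF.decomp hC z]
  rw [map_add, map_add, map_add, map_smul, map_smul, hn.1, hF.perp_apply hC hn hC.c1, hF.perp_apply hC hn hC.c2]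
  module

theorem inQ_mul (hC : Centre QW c f v₁ v₂) {n n' : oG Q} (hn : hF.InQ c n) (hn' : hF.InQ c n') :
    hF.InQ c (n * n') := by
  refine ⟨fun u => by rw [oG_mul_apply, hn'.1, hn.1], fun z hz => ?_⟩
  obtain ⟨u', hu'⟩ := hn'.2 z hz
  obtain ⟨u, hu⟩ := hn.2 z hz
  exact ⟨u + u', by rw [oG_mul_apply, hu', map_add, hu, hn.1, map_add pt, LinearMap.add_apply, add_assoc]⟩

theorem inQ_inv {n : oG Q} (hn : hF.InQ c n) : hF.InQ c n⁻¹ := by
  refine ⟨fun u => ?_, fun z hz => ?_⟩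
  · conv_lhs => rw [← hn.1 u]
    rw [oG_inv_apply]
  · obtain ⟨u, hu⟩ := hn.2 z hz
    refine ⟨-u, n.1.injective ?_⟩
    rw [oG_apply_inv, map_add, hu, hn.1, map_neg pt, LinearMap.neg_apply, add_neg_cancel_right]

theorem bq_mul (hC : Centre QW c f v₁ v₂) {n n' : oG Q} (hn : hF.InQ c n) (hn' : hF.InQ c n') {v : W}
    (hcv : polar QW c v = 0) : hF.bq f (n * n') v = hF.bq f n v + hF.bq f n' v := LinearMap.ext fun u => by
  rw [hF.bq_apply, LinearMap.add_apply, oG_mul_apply, hF.perp_apply hC hn' hcv, map_add n.1, hn.1,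
    hF.perp_apply hC hn hcv, map_add, map_add, hF.pW_pt, hF.pW_pt, hF.pW_pt, polar_comm QW f c, hC.hcf, one_smul,
    one_smul]
  abel

theorem bq_inv (hC : Centre QW c f v₁ v₂) {n : oG Q} (hn : hF.InQ c n) {v : W} (hcv : polar QW c v = 0) :
    hF.bq f n⁻¹ v = -hF.bq f n v := by
  refine eq_neg_of_add_eq_zero_left ?_
  rw [← hF.bq_mul hC (hF.inQ_inv hn) hn hcv, inv_mul_cancel]
  exact LinearMap.ext fun u => by rw [hF.bq_apply, oG_one_apply, hF.pW_pt, sub_self]; rfl

/-- the parameter of the commutator of two elements -/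
noncomputable def comS (c f v₁ v₂ : W) (n n' : oG Q) : U →ₗ[F] U :=
  (2 * QW v₁)⁻¹ • (hF.bq f n v₁ ∘ₗ hF.pW v₁ ∘ₗ n'.1.toLinearMap ∘ₗ pt.flip f -
      hF.bq f n' v₁ ∘ₗ hF.pW v₁ ∘ₗ n.1.toLinearMap ∘ₗ pt.flip f) +
    (2 * QW v₂)⁻¹ • (hF.bq f n v₂ ∘ₗ hF.pW v₂ ∘ₗ n'.1.toLinearMap ∘ₗ pt.flip f -
      hF.bq f n' v₂ ∘ₗ hF.pW v₂ ∘ₗ n.1.toLinearMap ∘ₗ pt.flip f)

theorem comm_apply (hC : Centre QW c f v₁ v₂) {n n' : oG Q} (hn : hF.InQ c n) (hn' : hF.InQ c n') (z : V) :
    n.1 (n'.1 z) = n'.1 (n.1 z) + pt (hF.comS c f v₁ v₂ n n' (hF.pW c z)) c := by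
  have hf' : ∀ {m m' : oG Q}, hF.InQ c m → hF.InQ c m' → ∀ u, m.1 (m'.1 (pt u f)) =
      pt (hF.pW f (m.1 (pt u f))) c + pt u f + (2 * QW v₁)⁻¹ • pt (hF.pW v₁ (m.1 (pt u f))) v₁ +
        (2 * QW v₂)⁻¹ • pt (hF.pW v₂ (m.1 (pt u f))) v₂ +
      (pt (hF.pW f (m'.1 (pt u f))) c + (2 * QW v₁)⁻¹ • pt (hF.pW v₁ (m'.1 (pt u f))) v₁ +
        (2 * QW v₂)⁻¹ • pt (hF.pW v₂ (m'.1 (pt u f))) v₂) +
      ((2 * QW v₁)⁻¹ • pt (hF.bq f m v₁ (hF.pW v₁ (m'.1 (pt u f)))) c +
        (2 * QW v₂)⁻¹ • pt (hF.bq f m v₂ (hF.pW v₂ (m'.1 (pt u f)))) c) := by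
    intro m m' hm hm' u
    have e : hF.pW c (m'.1 (pt u f)) = u := by rw [hF.pW_c_apply hm', hF.pW_pt, hC.hcf, one_smul]
    have e' : hF.pW c (m.1 (pt u f)) = u := by rw [hF.pW_c_apply hm, hF.pW_pt, hC.hcf, one_smul]
    conv_lhs => rw [hF.apply_eq hC hm, e]
    conv_lhs => enter [1, 1, 1, 2]; rw [hF.decomp hC (m.1 (pt u f)), e']
    abel
  have e1 : ∀ x, hF.pW c (pt x c) = 0 := fun x => by rw [hF.pW_pt, polar_sing hC.hc, zero_smul]
  have e2 : ∀ {v}, polar QW c v = 0 → ∀ x, hF.pW c (pt x v) = 0 := fun hv x => by rw [hF.pW_pt, hv, zero_smul]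
  have key : n.1.toLinearMap ∘ₗ n'.1.toLinearMap =
      n'.1.toLinearMap ∘ₗ n.1.toLinearMap + pt.flip c ∘ₗ hF.comS c f v₁ v₂ n n' ∘ₗ hF.pW c := hF.ext_pure fun u x => by
    rw [hC.expand x]
    simp only [LinearMap.add_apply, LinearMap.comp_apply, LinearEquiv.coe_coe, LinearMap.flip_apply, map_add, map_smul,
      hn.1, hn'.1, hF.perp_apply hC hn hC.c1, hF.perp_apply hC hn hC.c2, hF.perp_apply hC hn' hC.c1,
      hF.perp_apply hC hn' hC.c2, hF.pW_pt, polar_sing hC.hc, hC.hcf, hC.c1, hC.c2, zero_smul, one_smul, map_zero,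
      smul_zero, add_zero, zero_add, hf' hn hn', hf' hn' hn, comS, LinearMap.smul_apply, LinearMap.sub_apply,
      map_sub]
    module
  exact LinearMap.congr_fun key z

/-- the commutator of two elements of the group is supported on `U ⊗ c` -/
theorem radW_comm (hC : Centre QW c f v₁ v₂) {n n' : oG Q} (hn : hF.InQ c n) (hn' : hF.InQ c n') (hnH : n ∈ H)
    (hn'H : n' ∈ H) : ∃ h ∈ H, ∀ z, h.1 z = z + pt (hF.comS c f v₁ v₂ n n' (hF.pW c z)) c := by
  refine ⟨n * n' * (n' * n)⁻¹, mul_mem (mul_mem hnH hn'H) (inv_mem (mul_mem hn'H hnH)), fun z => ?_⟩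
  obtain ⟨w, rfl⟩ : ∃ w, (n' * n).1 w = z := ⟨_, oG_apply_inv _ z⟩
  rw [oG_mul_apply (n * n'), oG_inv_apply, oG_mul_apply, hF.comm_apply hC hn hn',
    hF.pW_c_apply (hF.inQ_mul hC hn' hn), oG_mul_apply]

/-- a parameter supported on `U ⊗ c` is skew -/
theorem radW_skew (hC : Centre QW c f v₁ v₂) {S : U →ₗ[F] U} {h : oG Q}
    (hh : ∀ z, h.1 z = z + pt (S (hF.pW c z)) c) (x y : U) : polar QU (S x) y = -polar QU x (S y) := by
  have hd : ∀ b, polar QU b (S b) = 0 := fun b => by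
    have h1 := h.2 (pt b f)
    rw [hh, hF.pW_pt, hC.hcf, one_smul, map_add', hF.pure_sing' _ hC.hc, hF.prod, polar_comm QW f c, hC.hcf,
      mul_one, add_zero] at h1
    linear_combination h1
  have h1 := hd (x + y)
  simp only [map_add, polar_add_left, polar_add_right, hd] at h1
  rw [polar_comm]
  linear_combination h1

/-- the Siegel transformation of the second factor at `c` -/
theorem inQ_sW {v : W} (hc : QW c = 0) (hv : polar QW c v = 0) : hF.InQ c (hF.lp (1, sO hc hv)) := by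
  refine ⟨fun u => ?_, fun z hz => ⟨hF.pW v z + -QW v • hF.pW c z, ?_⟩⟩
  · rw [hF.lp_pt, oG_one_apply, sO_apply, hv, polar_sing hc]; simp
  · have key : (hF.lp (1, sO hc hv)).1.toLinearMap =
        LinearMap.id + (pt.flip c ∘ₗ hF.pW v) + (-QW v) • (pt.flip c ∘ₗ hF.pW c) - pt.flip v ∘ₗ hF.pW c :=
      hF.ext_pure fun u x => by
        simp only [LinearEquiv.coe_coe, hF.lp_pt, oG_one_apply, LinearMap.sub_apply, LinearMap.add_apply,
          LinearMap.smul_apply, LinearMap.id_apply, LinearMap.comp_apply, LinearMap.flip_apply, hF.pW_pt, sO_apply,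
          map_add, map_smul, LinearMap.smul_apply, polar_comm QW x v, polar_comm QW x c]
        module
    have := LinearMap.congr_fun key z
    simp only [LinearEquiv.coe_coe, LinearMap.sub_apply, LinearMap.add_apply, LinearMap.smul_apply,
      LinearMap.id_apply, LinearMap.comp_apply, LinearMap.flip_apply, hz, map_zero, LinearMap.zero_apply, smul_zero,
      add_zero, sub_zero] at this
    rw [this, map_add pt, map_smul pt, LinearMap.add_apply, LinearMap.smul_apply, hz, map_zero, LinearMap.zero_apply,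
      smul_zero, add_zero]

theorem bq_sW (hC : Centre QW c f v₁ v₂) {v w : W} (hv : polar QW c v = 0) (hw : polar QW c w = 0) :
    hF.bq f (hF.lp (1, sO hC.hc hv)) w = polar QW v w • LinearMap.id := LinearMap.ext fun u => by
  rw [hF.bq_apply, hF.lp_pt, oG_one_apply, hF.pW_pt, sO_apply, LinearMap.smul_apply, LinearMap.id_apply,
    ← sub_smul]
  simp [polar_add_right, polar_smul_right, polar_comm QW w c, polar_comm QW w v, hw, hC.hcf, polar_comm QW f c]

theorem dimU_ge : 3 ≤ finrank F U := by rw [hF.dimU]; omega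

theorem dimW_ge : 3 ≤ finrank F W := by rw [hF.dimW]; omega

/-- exchanging the factors -/
theorem flip : Frame44 Q QW QU pt.flip where
  two := hF.two
  nd := hF.nd
  ndU := hF.ndW
  ndW := hF.ndU
  prod := fun u w u' w' => by rw [LinearMap.flip_apply, LinearMap.flip_apply, hF.prod, mul_comm]
  span := by
    refine eq_top_iff.2 (le_of_eq_of_le hF.span.symm (Submodule.span_mono ?_))
    rintro _ ⟨p, rfl⟩
    exact ⟨(p.2, p.1), rfl⟩
  lift := fun a b => (hF.lift b a).imp fun g hg => fun x y => hg y x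
  dimU := hF.dimW
  dimW := hF.dimU
  ellU := hF.ellW
  ellW := hF.ellU

theorem eq_of_pU {e : U} (he : e ≠ 0) {y y' : W} (h : pt e y = pt e y') : y = y' := by
  obtain ⟨z, -, hz⟩ := exists_perp hF.ndU (S := ⊥) (x := e) (by simpa using he)
  have := congrArg (hF.pU z) h
  rwa [hF.pU_pt, hF.pU_pt, polar_comm QU z e, hz, one_smul, one_smul] at this

end Frame44

end Cfsg.Agent.ClassicalMax.OTensorFour
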