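import Cfsg.Agent.ClassicalMax.OTensorFour.Spread
import Cfsg.Agent.ClassicalMax.OTensor4.Scalar

/-!
`O₄⁻ ⊗ O₄⁻`: unless the group has every Siegel transformation, its part in the radical of the stabiliser of `U ⊗ c`
consists of the Siegel transformations of the second factor.
-/

set_option autoImplicit false
set_option linter.unusedSectionVars false
set_option linter.style.haveILetI false

namespace Cfsg.Agent.ClassicalMax.OTensorFour

open Module QuadraticMap Cfsg.Agent.Classical Cfsg.Agent.Classical.Quad Cfsg.Agent.ClassicalMax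
open Cfsg.Agent.ClassicalMax.OTensor (Core InN Over polar_sing cnj cnj_apply cnj_smul symP symP_apply symP_conj
  symP_smul two_ne_card exists_aniso_two mem_line_of_perp scalar_of_sing OpSet)

variable {F U W V : Type*} [Field F] [Finite F] [AddCommGroup U] [Module F U] [FiniteDimensional F U]
  [AddCommGroup W] [Module F W] [FiniteDimensional F W] [AddCommGroup V] [Module F V] [FiniteDimensional F V]
  {Q : QuadraticForm F V} {QU : QuadraticForm F U} {QW : QuadraticForm F W} {pt : U →ₗ[F] W →ₗ[F] V}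
  {H : Subgroup (oG Q)}

/-- a symmetric operator commuting up to scalars with the Siegel transformations of one centre -/
theorem rigid_line (h2 : (2 : F) ≠ 0) (hR : (polarBilin QU).Nondegenerate) (hn : 4 ≤ finrank F U)
    (hell : ∀ c y, QU c = 0 → QU y = 0 → polar QU c y = 0 → c ≠ 0 → y ∈ F ∙ c) {B : U →ₗ[F] U}
    (hB : ∀ x y, polar QU (B x) y = polar QU x (B y)) {p : U} (hp0 : p ≠ 0) (hp : QU p = 0)
    (h : ∀ (v : U) (hv : polar QU p v = 0), ∃ μ : F, cnj (sO hp hv) B = B + μ • LinearMap.id) :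
    ∃ a ρ : F, B = a • symP QU p p + ρ • LinearMap.id := by
  obtain ⟨g, hg, hpg⟩ := exists_hyp_pair hR hp0 hp
  have hz : ∀ (v : U), polar QU p v = 0 → ∃ μ : F, ∀ z, B z + polar QU (B z) v • p - polar QU (B z) p • v
      + (-QU v * polar QU (B z) p) • p = B (z + polar QU z v • p - polar QU z p • v + (-QU v * polar QU z p) • p)
        + μ • (z + polar QU z v • p - polar QU z p • v + (-QU v * polar QU z p) • p) := by
    intro v hv
    obtain ⟨μ, hμ⟩ := h v hv
    refine ⟨μ, fun z => ?_⟩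
    have h1 := LinearMap.congr_fun hμ ((sO hp hv).1 z)
    rw [cnj_apply, oG_inv_apply, LinearMap.add_apply, LinearMap.smul_apply, LinearMap.id_apply, sO_apply, sO_apply] at h1
    convert h1 using 1
    · module
    · congr 1
      · congr 1; module
      · congr 1; module
  have hline : ∀ v, polar QU p v = 0 → QU v ≠ 0 → polar QU (B p) v = 0 ∧ polar QU (B p) p = 0 := by
    intro v hv hvq
    obtain ⟨μ, hμ⟩ := hz v hv
    have e1 := congrArg (polar QU v) (hμ p)
    simp only [polar_add_right, polar_sub_right, polar_smul_right, map_add, map_sub, map_smul, smul_eq_mul,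
      polar_comm QU v p, hv, polar_sing hp, polar_self', mul_zero, zero_mul, neg_zero, add_zero, zero_add, sub_zero] at e1
    have hκ : polar QU (B p) p = 0 := (mul_eq_zero.1 (show polar QU (B p) p * (2 * QU v) = 0 by
      linear_combination -e1)).resolve_right (mul_ne_zero h2 hvq)
    refine ⟨?_, hκ⟩
    have e2 := hμ p
    simp only [(polar_comm QU v p).trans hv, hv, polar_sing hp, hκ, zero_smul, mul_zero, add_zero, sub_zero,
      add_right_inj] at e2
    have hμv : polar QU (B p) v = μ := smul_left_injective F hp0 e2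
    obtain ⟨x, hpx, hvx, hx⟩ := exists_aniso_two hR hn (fun _ => hell) p v
    have e3 := congrArg (polar QU x) (hμ x)
    simp only [polar_add_right, polar_sub_right, polar_smul_right, map_add, map_sub, map_smul, smul_eq_mul,
      polar_comm QU x p, hpx, polar_comm QU x v, hvx, polar_self', mul_zero, zero_mul, neg_zero, add_zero, zero_add,
      sub_zero, zero_smul, map_zero] at e3
    have hμ0 : μ = 0 := (mul_eq_zero.1 (show μ * (2 * QU x) = 0 by linear_combination -e3)).resolve_right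
      (mul_ne_zero h2 hx)
    rw [hμv, hμ0]
  have hκ : polar QU (B p) p = 0 := by
    obtain ⟨v, hv, -, hvq⟩ := exists_aniso_two hR hn (fun _ => hell) p p
    exact (hline v hv hvq).2
  have hperp : ∀ v, polar QU p v = 0 → polar QU (B p) v = 0 := fun v hv => by
    by_cases hvq : QU v = 0
    · obtain ⟨r, rfl⟩ := Submodule.mem_span_singleton.1 (hell p v hp hvq hv hp0)
      rw [polar_smul_right, hκ, smul_zero]
    · exact (hline v hv hvq).1
  obtain ⟨ρ, hρ⟩ := Submodule.mem_span_singleton.1 (mem_line_of_perp hR hperp)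
  have hμ0 : ∀ (v : U), polar QU p v = 0 → ∀ z, B z + polar QU (B z) v • p - polar QU (B z) p • v
      + (-QU v * polar QU (B z) p) • p = B (z + polar QU z v • p - polar QU z p • v + (-QU v * polar QU z p) • p) := by
    intro v hv z
    obtain ⟨μ, hμ⟩ := hz v hv
    have e2 := hμ p
    simp only [hperp v hv, hκ, (polar_comm QU v p).trans hv, hv, polar_sing hp, zero_smul, mul_zero, add_zero,
      sub_zero, left_eq_add, smul_eq_zero, hp0, or_false] at e2
    rw [hμ z, e2, zero_smul, add_zero]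
  -- on the orthogonal of `p`
  have hmid : ∀ x, polar QU p x = 0 → ∀ v, polar QU p v = 0 → polar QU (B x) v = ρ * polar QU x v := by
    intro x hx v hv
    have e1 := hμ0 v hv x
    have e2 : polar QU (B x) p = 0 := by rw [hB, ← hρ, polar_smul_right, polar_comm, hx, smul_zero]
    simp only [e2, polar_comm QU x p, hx, zero_smul, mul_zero, add_zero, sub_zero, map_add, map_smul, add_right_inj,
      ← hρ, smul_smul] at e1
    rw [smul_left_injective F hp0 e1, mul_comm]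
  obtain ⟨C, hC⟩ : ∃ C : U →ₗ[F] U, C = B - ρ • LinearMap.id := ⟨_, rfl⟩
  have hCp : C p = 0 := by rw [hC, LinearMap.sub_apply, LinearMap.smul_apply, LinearMap.id_apply, hρ, sub_self]
  have hCs : ∀ x y, polar QU (C x) y = polar QU x (C y) := fun x y => by
    simp only [hC, LinearMap.sub_apply, LinearMap.smul_apply, LinearMap.id_apply, polar_sub_left, polar_sub_right,
      polar_smul_left, polar_smul_right, hB]
  have hCx : ∀ x, polar QU p x = 0 → C x = polar QU (C g) x • p := fun x hx => by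
    obtain ⟨r, hr⟩ := Submodule.mem_span_singleton.1 (mem_line_of_perp hR (p := p) (z := C x) fun v hv => by
      rw [hC, LinearMap.sub_apply, LinearMap.smul_apply, LinearMap.id_apply, polar_sub_left, polar_smul_left,
        hmid x hx v hv, smul_eq_mul, sub_self])
    rw [hCs, ← hr, polar_smul_right, polar_comm QU g p, hpg, smul_eq_mul, mul_one]
  have hCg : C g ∈ F ∙ p := mem_line_of_perp hR fun v hv => by
    have e1 := hμ0 v hv g
    have hBg : B g = C g + ρ • g := by simp [hC]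
    have hBv : B v = C v + ρ • v := by simp [hC]
    simp only [map_add, map_sub, map_smul, ← hρ, hBg, hBv, hCx v hv, polar_add_left, polar_smul_left,
      hCs g p, hCp, polar_zero_right, polar_comm QU g p, hpg, smul_eq_mul, mul_one, zero_add] at e1
    have e2 : (2 * polar QU (C g) v) • p = 0 := by linear_combination (norm := module) e1
    exact (mul_eq_zero.1 ((smul_eq_zero.1 e2).resolve_right hp0)).resolve_left h2
  obtain ⟨γ, hγ⟩ := Submodule.mem_span_singleton.1 hCg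
  refine ⟨γ / 2, ρ, LinearMap.ext fun x => ?_⟩
  obtain ⟨x₀, hx₀⟩ : ∃ x₀, x₀ = x - polar QU p x • g := ⟨_, rfl⟩
  have hpx₀ : polar QU p x₀ = 0 := by
    rw [hx₀, polar_sub_right, polar_smul_right, hpg, smul_eq_mul, mul_one, sub_self]
  have e1 := hCx x₀ hpx₀
  rw [← hγ, polar_smul_left, hpx₀, smul_zero, zero_smul, hx₀, map_sub, map_smul, ← hγ, sub_eq_zero, smul_smul] at e1
  have e2 : B x = C x + ρ • x := by simp [hC]
  rw [e2, e1, LinearMap.add_apply, LinearMap.smul_apply, LinearMap.smul_apply, LinearMap.id_apply, symP_apply]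
  match_scalars <;> field_simp
  all_goals ring

/-- a symmetric operator commuting up to scalars with the group is scalar -/
theorem scalar_of_rigid (h2 : (2 : F) ≠ 0) (hR : (polarBilin QU).Nondegenerate) (hn : 4 ≤ finrank F U)
    (hell : ∀ c y, QU c = 0 → QU y = 0 → polar QU c y = 0 → c ≠ 0 → y ∈ F ∙ c) {B : U →ₗ[F] U}
    (hB : ∀ x y, polar QU (B x) y = polar QU x (B y))
    (h : ∀ a ∈ commutator (oG QU), ∃ μ : F, cnj a B = B + μ • LinearMap.id) : ∃ κ : F, ∀ x, B x = κ • x := by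
  have key : ∀ p, QU p = 0 → B p ∈ F ∙ p := fun p hp => by
    rcases eq_or_ne p 0 with rfl | hp0
    · simp
    obtain ⟨a, ρ, hρ⟩ := rigid_line h2 hR hn hell hB hp0 hp fun v hv =>
      h _ (sO_mem_commutator hR (Or.inl (two_ne_card h2)) hp hv)
    refine Submodule.mem_span_singleton.2 ⟨ρ, ?_⟩
    simp [hρ, symP_apply, polar_sing hp]
  exact scalar_of_sing h2 hR (by omega) B B hB key key

namespace Frame44

variable (hF : Frame44 Q QU QW pt)
include hF

theorem exists_centre' {c : W} (hc0 : c ≠ 0) (hc : QW c = 0) : ∃ f v₁ v₂, Centre QW c f v₁ v₂ := by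
  obtain ⟨f₀, hf₀, hcf₀⟩ := exists_hyp_pair hF.ndW hc0 hc
  obtain ⟨v, hcv, -, hv⟩ := exists_aniso_perp hF.ndW (by rw [hF.dimW]; omega) hc hf₀ hcf₀
  obtain ⟨f, v₂, hC⟩ := hF.exists_centre hc0 hc hcv hv
  exact ⟨f, v, v₂, hC⟩

theorem centre_ne {c f v₁ v₂ : W} (hC : Centre QW c f v₁ v₂) : c ≠ 0 := fun e => by
  have := hC.hcf
  rw [e] at this
  simp [polar] at this

/-- a pair fixing `c` up to a scalar conjugates the radical into itself -/
theorem inQ_conj {c : W} {h : oG Q} (hh : ∀ u, ∃ u', h.1 (pt u c) = pt u' c) {n : oG Q} (hn : hF.InQ c n)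
    (hsurj : ∀ u', ∃ u, h.1 (pt u c) = pt u' c) : hF.InQ c (h * n * h⁻¹) := by
  refine ⟨fun u' => ?_, fun z hz => ?_⟩
  · obtain ⟨u, hu⟩ := hsurj u'
    rw [oG_mul_apply, oG_mul_apply, ← hu, oG_inv_apply, hn.1]
  · have hz' : hF.pW c ((h⁻¹).1 z) = 0 := hF.eqU fun u => by
      obtain ⟨u', hu'⟩ := hh u
      rw [hF.polar_pW, ← polar_oG h, oG_apply_inv, hu', ← hF.polar_pW, hz]
      simp [polar]
    obtain ⟨u, hu⟩ := hn.2 _ hz'
    obtain ⟨u', hu'⟩ := hh u
    exact ⟨u', by rw [oG_mul_apply, oG_mul_apply, hu, map_add, oG_apply_inv, hu']⟩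

variable {c f v₁ v₂ : W}

theorem pW_sW (hC : Centre QW c f v₁ v₂) {v w : W} (hv : polar QW c v = 0) (hcw : polar QW c w = 0)
    (hfw : polar QW f w = 0) (u : U) :
    hF.pW w ((hF.lp (1, sO hC.hc hv)).1 (pt u f)) = -polar QW v w • u := by
  rw [hF.lp_pt, oG_one_apply, hF.pW_pt, sO_apply]
  simp [polar_add_right, polar_smul_right, polar_comm QW w c, hcw, polar_comm QW w f, hfw, hC.hcf,
    polar_comm QW f c, polar_comm QW w v]

/-- commuting with the Siegel transformations makes the components symmetric -/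
theorem symm_of_comS (hC : Centre QW c f v₁ v₂) {n : oG Q} (hn : hF.InQ c n)
    (h₁ : hF.comS c f v₁ v₂ n (hF.lp (1, sO hC.hc hC.c1)) = 0) (h₂ : hF.comS c f v₁ v₂ n (hF.lp (1, sO hC.hc hC.c2)) = 0) :
    (∀ x y, polar QU (hF.bq f n v₁ x) y = polar QU x (hF.bq f n v₁ y)) ∧
      ∀ x y, polar QU (hF.bq f n v₂ x) y = polar QU x (hF.bq f n v₂ y) := by
  have h2 := hF.two
  have key : ∀ (v : W) (hv : polar QW c v = 0), hF.comS c f v₁ v₂ n (hF.lp (1, sO hC.hc hv)) = 0 → ∀ x y : U,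
      (2 * QW v₁)⁻¹ * polar QW v v₁ * (polar QU (hF.bq f n v₁ x) y - polar QU x (hF.bq f n v₁ y)) +
        (2 * QW v₂)⁻¹ * polar QW v v₂ * (polar QU (hF.bq f n v₂ x) y - polar QU x (hF.bq f n v₂ y)) = 0 := by
    intro v hv h x y
    have h1 := congrArg (fun S => polar QU (S x) y) h
    simp only [comS, LinearMap.add_apply, LinearMap.smul_apply, LinearMap.sub_apply, LinearMap.comp_apply,
      LinearEquiv.coe_coe, LinearMap.flip_apply, hF.bq_sW hC hv hC.c1, hF.bq_sW hC hv hC.c2,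
      hF.pW_sW hC hv hC.c1 hC.f1, hF.pW_sW hC hv hC.c2 hC.f2, LinearMap.id_apply, map_smul, polar_add_left,
      polar_sub_left, sub_eq_add_neg, LinearMap.neg_apply, polar_neg_left, polar_smul_left, hF.pW_v_apply hC hn hC.c1 hC.f1,
      hF.pW_v_apply hC hn hC.c2 hC.f2, LinearMap.zero_apply, polar_zero_left, smul_eq_mul] at h1
    linear_combination -h1
  refine ⟨fun x y => sub_eq_zero.1 ?_, fun x y => sub_eq_zero.1 ?_⟩
  · have := key v₁ hC.c1 h₁ x y
    rw [polar_self', hC.h12, mul_zero, zero_mul, add_zero, inv_mul_cancel₀ (mul_ne_zero h2 hC.q1), one_mul] at this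
    exact this
  · have := key v₂ hC.c2 h₂ x y
    rw [polar_self', polar_comm QW v₂ v₁, hC.h12, mul_zero, zero_mul, zero_add,
      inv_mul_cancel₀ (mul_ne_zero h2 hC.q2), one_mul] at this
    exact this

theorem comS_zero (hne : ¬ eo Q ≤ H) (hO : Over pt H) (hC : Centre QW c f v₁ v₂) {n n' : oG Q} (hn : hF.InQ c n)
    (hn' : hF.InQ c n') (hnH : n ∈ H) (hn'H : n' ∈ H) : hF.comS c f v₁ v₂ n n' = 0 := by
  obtain ⟨g, hg, hz⟩ := hF.radW_comm hC hn hn' hnH hn'H
  by_contra h0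
  exact hne (hF.eo_le_of_radW hO (hF.centre_ne hC) hC.hc (hF.radW_skew hC hz) h0 ⟨g, hg, hz⟩)

theorem symm_of_mem (hne : ¬ eo Q ≤ H) (hO : Over pt H) (hC : Centre QW c f v₁ v₂) {n : oG Q} (hn : hF.InQ c n)
    (hnH : n ∈ H) :
    (∀ x y, polar QU (hF.bq f n v₁ x) y = polar QU x (hF.bq f n v₁ y)) ∧
      ∀ x y, polar QU (hF.bq f n v₂ x) y = polar QU x (hF.bq f n v₂ y) :=
  hF.symm_of_comS hC hn (hF.comS_zero hne hO hC hn (hF.inQ_sW hC.hc hC.c1) hnH (sW_mem44 hO hF hC.hc hC.c1))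
    (hF.comS_zero hne hO hC hn (hF.inQ_sW hC.hc hC.c2) hnH (sW_mem44 hO hF hC.hc hC.c2))

/-- the parameters of the elements of the group -/
def Par (H : Subgroup (oG Q)) (c f v₁ v₂ : W) (B₁ B₂ : U →ₗ[F] U) : Prop :=
  ∃ n ∈ H, hF.InQ c n ∧ hF.bq f n v₁ = B₁ ∧ hF.bq f n v₂ = B₂

theorem par_add (hC : Centre QW c f v₁ v₂) {A A' B B' : U →ₗ[F] U} (h : hF.Par H c f v₁ v₂ A B)
    (h' : hF.Par H c f v₁ v₂ A' B') : hF.Par H c f v₁ v₂ (A + A') (B + B') := by
  obtain ⟨n, hn, hq, rfl, rfl⟩ := h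
  obtain ⟨n', hn', hq', rfl, rfl⟩ := h'
  exact ⟨n * n', mul_mem hn hn', hF.inQ_mul hC hq hq', hF.bq_mul hC hq hq' hC.c1, hF.bq_mul hC hq hq' hC.c2⟩

theorem par_sub (hC : Centre QW c f v₁ v₂) {A A' B B' : U →ₗ[F] U} (h : hF.Par H c f v₁ v₂ A B)
    (h' : hF.Par H c f v₁ v₂ A' B') : hF.Par H c f v₁ v₂ (A - A') (B - B') := by
  obtain ⟨n', hn', hq', rfl, rfl⟩ := h'
  rw [sub_eq_add_neg, sub_eq_add_neg]
  exact hF.par_add hC h ⟨n'⁻¹, inv_mem hn', hF.inQ_inv hq', hF.bq_inv hC hq' hC.c1, hF.bq_inv hC hq' hC.c2⟩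

theorem lpU_conj {n : oG Q} (hq : hF.InQ c n) (a : oG QU) :
    hF.InQ c (hF.lp (a, 1) * n * (hF.lp (a, 1))⁻¹) ∧
      ∀ v, hF.bq f (hF.lp (a, 1) * n * (hF.lp (a, 1))⁻¹) v = cnj a (hF.bq f n v) := by
  refine ⟨hF.inQ_conj (fun u => ⟨a.1 u, by rw [hF.lp_pt, oG_one_apply]⟩) hq
    fun u => ⟨(a⁻¹).1 u, by rw [hF.lp_pt, oG_one_apply, oG_apply_inv]⟩, fun v => LinearMap.ext fun u => ?_⟩
  rw [cnj_apply, hF.bq_apply, hF.bq_apply, oG_mul_apply, oG_mul_apply]
  have e1 : ((hF.lp (a, 1))⁻¹).1 (pt u v) = pt ((a⁻¹).1 u) v := by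
    rw [← map_inv, Prod.inv_mk, inv_one, hF.lp_pt, oG_one_apply]
  have e2 : ∀ z, hF.pW f ((hF.lp (a, 1)).1 z) = a.1 (hF.pW f z) := fun z => by
    simpa using hF.pW_lp a 1 f z
  rw [e1, e2, map_sub, map_smul, oG_apply_inv]

theorem par_cnj (hO : Over pt H) {A B : U →ₗ[F] U} (h : hF.Par H c f v₁ v₂ A B) {a : oG QU}
    (ha : a ∈ commutator (oG QU)) : hF.Par H c f v₁ v₂ (cnj a A) (cnj a B) := by
  obtain ⟨n, hn, hq, rfl, rfl⟩ := h
  have hk := hO.lp_memC hF.toCore ha (one_mem (commutator (oG QW)))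
  exact ⟨_, mul_mem (mul_mem hk hn) (inv_mem hk), (hF.lpU_conj (f := f) hq a).1, (hF.lpU_conj hq a).2 _,
    (hF.lpU_conj hq a).2 _⟩

theorem par_sq (hO : Over pt H) (hC : Centre QW c f v₁ v₂) {A B : U →ₗ[F] U} (h : hF.Par H c f v₁ v₂ A B) (t : F) :
    hF.Par H c f v₁ v₂ (t ^ 2 • A) (t ^ 2 • B) := by
  rcases eq_or_ne t 0 with rfl | ht
  · have := hF.par_sub hC h h
    simpa using this
  have h2 := hF.two
  have hv : ∀ s : F, QW (c + s • f) = s := fun s => by rw [map_add_smul, hC.hc, hC.hf, hC.hcf]; ring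
  have hv1 : QW (c + (1 : F) • f) ≠ 0 := by rw [hv]; exact one_ne_zero
  have hvt : QW (c + (t⁻¹ * t⁻¹) • f) ≠ 0 := by rw [hv]; simpa using ht
  have hrc : ∀ (s : F) (hs : QW (c + s • f) ≠ 0), (rO hs).1 c = (-s) • f ∧ (rO hs).1 f = (-s⁻¹) • c ∧
      (rO hs).1 v₁ = v₁ ∧ (rO hs).1 v₂ = v₂ := fun s hs => by
    have hs0 : s ≠ 0 := by simpa [hv] using hs
    refine ⟨?_, ?_, ?_, ?_⟩
    · rw [rO_apply, hv, polar_add_right, polar_smul_right, polar_sing hC.hc, hC.hcf, smul_eq_mul, mul_one, zero_add,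
        div_self hs0]
      module
    · rw [rO_apply, hv, polar_add_right, polar_smul_right, polar_sing hC.hf, polar_comm QW f c, hC.hcf, smul_zero,
        add_zero, one_div, smul_add, smul_smul, inv_mul_cancel₀ hs0]
      module
    · rw [rO_apply, polar_add_right, polar_smul_right, polar_comm QW v₁ c, hC.c1, polar_comm QW v₁ f, hC.f1,
        smul_zero, add_zero, zero_div, zero_smul, sub_zero]
    · rw [rO_apply, polar_add_right, polar_smul_right, polar_comm QW v₂ c, hC.c2, polar_comm QW v₂ f, hC.f2,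
        smul_zero, add_zero, zero_div, zero_smul, sub_zero]
  set k := rO hvt * rO hv1 with hkd
  have hk : hF.lp (1, k) ∈ H :=
    hO.lp_memC hF.toCore (one_mem _) (rO_mul_mem_commutator hF.ndW hvt hv1 (t := t) (by
      rw [hv, hv]; field_simp))
  have hkc : k.1 c = t ^ 2 • c := by
    rw [oG_mul_apply, (hrc _ hv1).1, map_smul, (hrc _ hvt).2.1, smul_smul]
    congr 1
    field_simp
  have hkf : k.1 f = (t ^ 2)⁻¹ • f := by
    rw [oG_mul_apply, (hrc _ hv1).2.1, map_smul, (hrc _ hvt).1, smul_smul]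
    congr 1
    field_simp
  have hk1 : k.1 v₁ = v₁ := by rw [oG_mul_apply, (hrc _ hv1).2.2.1, (hrc _ hvt).2.2.1]
  have hk2 : k.1 v₂ = v₂ := by rw [oG_mul_apply, (hrc _ hv1).2.2.2, (hrc _ hvt).2.2.2]
  obtain ⟨n, hn, hq, rfl, rfl⟩ := h
  have hq' : hF.InQ c (hF.lp (1, k) * n * (hF.lp (1, k))⁻¹) := by
    refine hF.inQ_conj (fun u => ⟨t ^ 2 • u, ?_⟩) hq fun u => ⟨(t ^ 2)⁻¹ • u, ?_⟩
    · rw [hF.lp_pt, oG_one_apply, hkc, map_smul, map_smul, LinearMap.smul_apply]
    · rw [hF.lp_pt, oG_one_apply, hkc, map_smul, map_smul pt, LinearMap.smul_apply, smul_smul,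
        mul_inv_cancel₀ (pow_ne_zero 2 ht), one_smul]
  have e : ∀ v, k.1 v = v → polar QW c v = 0 → hF.bq f (hF.lp (1, k) * n * (hF.lp (1, k))⁻¹) v = t ^ 2 • hF.bq f n v := by
    intro v hkv hcv
    refine LinearMap.ext fun u => ?_
    have e1 : ((hF.lp (1, k))⁻¹).1 (pt u v) = pt u v := (hF.lp (1, k)).1.injective (by
      rw [oG_apply_inv, hF.lp_pt, oG_one_apply, hkv])
    rw [LinearMap.smul_apply, hF.bq_apply, oG_mul_apply, oG_mul_apply, e1, hF.perp_apply hC hq hcv, map_add, hF.lp_pt,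
      hF.lp_pt, oG_one_apply, oG_one_apply, hkv, hkc, map_smul, map_add, map_smul, hF.pW_pt, hF.pW_pt,
      polar_comm QW f c, hC.hcf, one_smul, add_sub_cancel_left]
  exact ⟨_, mul_mem (mul_mem hk hn) (inv_mem hk), hq', e _ hk1 hC.c1, e _ hk2 hC.c2⟩

/-- the vector with prescribed products -/
noncomputable def vec (_hF : Frame44 Q QU QW pt) (v₁ v₂ : W) (a b : F) : W :=
  ((2 * QW v₁)⁻¹ * a) • v₁ + ((2 * QW v₂)⁻¹ * b) • v₂

theorem vec_spec (hC : Centre QW c f v₁ v₂) (a b : F) : polar QW c (hF.vec v₁ v₂ a b) = 0 ∧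
    polar QW (hF.vec v₁ v₂ a b) v₁ = a ∧ polar QW (hF.vec v₁ v₂ a b) v₂ = b := by
  have e1 := mul_ne_zero hF.two hC.q1
  have e2 := mul_ne_zero hF.two hC.q2
  refine ⟨?_, ?_, ?_⟩
  · rw [vec, polar_add_right, polar_smul_right, polar_smul_right, hC.c1, hC.c2, smul_zero, smul_zero, add_zero]
  · rw [vec, polar_add_left, polar_smul_left, polar_smul_left, polar_self', polar_comm QW v₂ v₁, hC.h12, smul_zero,
      add_zero, smul_eq_mul, mul_right_comm, inv_mul_cancel₀ e1, one_mul]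
  · rw [vec, polar_add_left, polar_smul_left, polar_smul_left, polar_self', hC.h12, smul_zero, zero_add,
      smul_eq_mul, mul_right_comm, inv_mul_cancel₀ e2, one_mul]

/-- scalar parameters -/
theorem par_scalar (hO : Over pt H) (hC : Centre QW c f v₁ v₂) (a b : F) :
    hF.Par H c f v₁ v₂ (a • LinearMap.id) (b • LinearMap.id) := by
  obtain ⟨hw, h1, h2⟩ := hF.vec_spec hC a b
  exact ⟨_, sW_mem44 hO hF hC.hc hw, hF.inQ_sW hC.hc hw, by rw [hF.bq_sW hC hw hC.c1, h1],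
    by rw [hF.bq_sW hC hw hC.c2, h2]⟩

theorem par_symm (hne : ¬ eo Q ≤ H) (hO : Over pt H) (hC : Centre QW c f v₁ v₂) {A B : U →ₗ[F] U}
    (h : hF.Par H c f v₁ v₂ A B) :
    (∀ x y, polar QU (A x) y = polar QU x (A y)) ∧ ∀ x y, polar QU (B x) y = polar QU x (B y) := by
  obtain ⟨n, hn, hq, rfl, rfl⟩ := h
  exact hF.symm_of_mem hne hO hC hq hn

/-- no pair of multiples of the square of a singular vector -/
theorem par_square_zero (hne : ¬ eo Q ≤ H) (hO : Over pt H) (hC : Centre QW c f v₁ v₂) {p : U} (hp0 : p ≠ 0)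
    (hp : QU p = 0) {κ₁ κ₂ : F} (h : hF.Par H c f v₁ v₂ (κ₁ • symP QU p p) (κ₂ • symP QU p p)) :
    κ₁ = 0 ∧ κ₂ = 0 := by
  have h2 := hF.two
  obtain ⟨g, hg, hpg⟩ := exists_hyp_pair hF.ndU hp0 hp
  have hg0 : g ≠ 0 := fun e => by rw [e] at hpg; simp [polar] at hpg
  obtain ⟨a, ha, t, ht, hae⟩ := exists_eo_point hF.ndU hF.dimU_ge hp0 hp hg0 hg
  rw [eo_eq_commutator hF.ndU hF.dimU_ge (Or.inl (two_ne_card h2))] at ha
  have h3 := hF.par_cnj hO h ha
  obtain ⟨m, hm, hmq, hm1, hm2⟩ := h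
  obtain ⟨m', hm', hmq', hm1', hm2'⟩ := h3
  have hS := hF.comS_zero hne hO hC hmq hmq' hm hm'
  obtain ⟨hsm1, hsm2⟩ := hF.symm_of_mem hne hO hC hmq hm
  obtain ⟨hsm1', hsm2'⟩ := hF.symm_of_mem hne hO hC hmq' hm'
  have hpw : ∀ (n : oG Q) (hq : hF.InQ c n) (w : W), polar QW c w = 0 → polar QW f w = 0 →
      (∀ x y, polar QU (hF.bq f n w x) y = polar QU x (hF.bq f n w y)) → ∀ u,
      hF.pW w (n.1 (pt u f)) = -hF.bq f n w u := fun n hq w hcw hfw hsy u => hF.eqU fun u' => by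
    rw [hF.pW_v_apply hC hq hcw hfw, polar_neg_left, hsy]
  have h4 := LinearMap.congr_fun hS p
  simp only [comS, LinearMap.add_apply, LinearMap.smul_apply, LinearMap.sub_apply, LinearMap.comp_apply,
    LinearEquiv.coe_coe, LinearMap.flip_apply, hpw _ hmq' _ hC.c1 hC.f1 hsm1', hpw _ hmq _ hC.c1 hC.f1 hsm1,
    hpw _ hmq' _ hC.c2 hC.f2 hsm2', hpw _ hmq _ hC.c2 hC.f2 hsm2, hm1, hm2, hm1', hm2', map_neg,
    LinearMap.zero_apply] at h4
  have hsp : ∀ x, symP QU p p x = (2 * polar QU p x) • p := fun x => by rw [symP_apply]; module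
  have hsa : ∀ x, cnj a (symP QU p p) x = (2 * t * t * polar QU g x) • g := fun x => by
    rw [cnj_apply, symP_conj, hae, symP_apply, polar_smul_left, smul_eq_mul]
    module
  simp only [cnj_smul, LinearMap.smul_apply, hsp, hsa, map_smul, map_neg, polar_sing hp, polar_comm QU g p, hpg,
    smul_smul, polar_smul_right, polar_sing hg, mul_zero, mul_one, zero_smul, map_zero, neg_zero, smul_zero,
    sub_zero, zero_sub] at h4
  have h5 : (((2 * QW v₁)⁻¹ * (κ₁ * κ₁) + (2 * QW v₂)⁻¹ * (κ₂ * κ₂)) * (4 * t * t)) • p = 0 := by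
    linear_combination (norm := module) -h4
  rw [smul_eq_zero] at h5
  have h6 := h5.resolve_right hp0
  have h4' : (4 : F) * t * t ≠ 0 := by
    rw [show (4 : F) = 2 * 2 by norm_num]
    exact mul_ne_zero (mul_ne_zero (mul_ne_zero h2 h2) ht) ht
  have h7 := (mul_eq_zero.1 h6).resolve_right h4'
  have h8 : QW (κ₂ • v₁ + κ₁ • v₂) = 0 := by
    have e := hC.q1; have e' := hC.q2
    rw [map_add', Quad.map_smul', Quad.map_smul', polar_smul_left, polar_smul_right, hC.h12]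
    field_simp at h7
    simp only [smul_zero, add_zero]
    linear_combination h7
  have h9 : κ₂ • v₁ + κ₁ • v₂ = 0 := by
    obtain ⟨r, hr⟩ := Submodule.mem_span_singleton.1 (hF.ellW c _ hC.hc h8
      (by rw [polar_add_right, polar_smul_right, polar_smul_right, hC.c1, hC.c2]; simp) (hF.centre_ne hC))
    have := congrArg (polar QW f) hr
    simp only [polar_add_right, polar_smul_right, polar_comm QW f c, hC.hcf, hC.f1, hC.f2, smul_zero, add_zero,
      smul_eq_mul, mul_one, mul_zero, zero_add] at this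
    rw [← hr, this, zero_smul]
  have e1 := congrArg (polar QW v₁) h9
  have e2 := congrArg (polar QW v₂) h9
  simp only [polar_add_right, polar_smul_right, polar_self', hC.h12, polar_comm QW v₂ v₁, smul_eq_mul, mul_zero,
    add_zero, zero_add, polar_zero_right, mul_eq_zero, h2, hC.q1, hC.q2, or_false, false_or] at e1 e2
  exact ⟨e2, e1⟩

/-- a pair with trivial first component has a scalar second one -/
theorem par_zero_left (hne : ¬ eo Q ≤ H) (hO : Over pt H) (hC : Centre QW c f v₁ v₂) {B : U →ₗ[F] U}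
    (h : hF.Par H c f v₁ v₂ 0 B) : ∃ κ : F, ∀ x, B x = κ • x := by
  by_contra hns
  have hM : OpSet QU (fun A => hF.Par H c f v₁ v₂ 0 A) :=
    { add := fun hA hB => by simpa using hF.par_add hC hA hB
      neg := fun hA => by simpa using hF.par_sub hC (hF.par_sub hC hA hA) hA
      sq := fun t hA => by simpa using hF.par_sq hO hC hA t
      conj := fun {A} {p v} hp hv hA => by
        have h1 := hF.par_cnj hO hA (sO_mem_commutator hF.ndU (Or.inl (two_ne_card hF.two)) hp hv)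
        simp only [cnj, sO_inv hp hv, LinearMap.zero_comp, LinearMap.comp_zero] at h1
        exact h1 }
  obtain ⟨p, hp0, hp, h1⟩ := hM.exists_square hF.two hF.ndU hF.dimU_ge
    (fun e => absurd (hF.dimU ▸ e : (4 : ℕ) = 3) (by omega)) (fun _ => hF.ellU) (hF.par_symm hne hO hC h).2 hns h
  have h2 := hF.par_square_zero hne hO hC hp0 hp (κ₁ := 0) (κ₂ := 1) (by rw [zero_smul, one_smul]; exact h1)
  exact one_ne_zero h2.2

/-- the components are scalar -/
theorem scalar_of_mem (hne : ¬ eo Q ≤ H) (hO : Over pt H) (hC : Centre QW c f v₁ v₂) {n : oG Q} (hn : hF.InQ c n)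
    (hnH : n ∈ H) :
    (∃ κ : F, ∀ x, hF.bq f n v₁ x = κ • x) ∧ ∃ κ : F, ∀ x, hF.bq f n v₂ x = κ • x := by
  have h2 := hF.two
  have h0 : hF.Par H c f v₁ v₂ (hF.bq f n v₁) (hF.bq f n v₂) := ⟨n, hnH, hn, rfl, rfl⟩
  have hfirst : ∃ κ : F, ∀ x, hF.bq f n v₁ x = κ • x := by
    by_contra hns
    have hM : OpSet QU (fun A => ∃ B, hF.Par H c f v₁ v₂ A B) :=
      { add := fun ⟨_, hA⟩ ⟨_, hB⟩ => ⟨_, hF.par_add hC hA hB⟩
        neg := fun {A} ⟨B, hA⟩ => ⟨B - B - B, by simpa using hF.par_sub hC (hF.par_sub hC hA hA) hA⟩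
        sq := fun t ⟨_, hA⟩ => ⟨_, hF.par_sq hO hC hA t⟩
        conj := fun {A} {p v} hp hv ⟨B, hA⟩ => by
          have h1 := hF.par_cnj hO hA (sO_mem_commutator hF.ndU (Or.inl (two_ne_card hF.two)) hp hv)
          exact ⟨_, by simpa only [cnj, sO_inv hp hv] using h1⟩ }
    obtain ⟨p, hp0, hp, B, hB⟩ := hM.exists_square h2 hF.ndU hF.dimU_ge
      (fun e => absurd (hF.dimU ▸ e : (4 : ℕ) = 3) (by omega)) (fun _ => hF.ellU) (hF.par_symm hne hO hC h0).1 hns
      ⟨_, h0⟩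
    obtain ⟨a, ρ, hρ⟩ := rigid_line h2 hF.ndU hF.dimU.ge hF.ellU (hF.par_symm hne hO hC hB).2 hp0 hp fun v hv => by
      have h1 := hF.par_cnj hO hB (sO_mem_commutator hF.ndU (Or.inl (two_ne_card h2)) hp hv)
      have e : cnj (sO hp hv) (symP QU p p) = symP QU p p := LinearMap.ext fun x => by
        rw [cnj_apply, symP_conj, show (sO hp hv).1 p = p by rw [sO_apply, hv, polar_sing hp]; simp]
      rw [e] at h1
      have h3 := hF.par_sub hC h1 hB
      rw [sub_self] at h3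
      obtain ⟨μ, hμ⟩ := hF.par_zero_left hne hO hC h3
      refine ⟨μ, LinearMap.ext fun x => ?_⟩
      have := hμ x
      rw [LinearMap.sub_apply, sub_eq_iff_eq_add] at this
      rw [this, LinearMap.add_apply, LinearMap.smul_apply, LinearMap.id_apply, add_comm]
    have h3 := hF.par_sub hC hB (hF.par_scalar hO hC 0 ρ)
    rw [zero_smul, sub_zero, hρ, add_sub_cancel_right, ← one_smul F (symP QU p p), smul_smul, mul_one] at h3
    exact one_ne_zero (hF.par_square_zero hne hO hC hp0 hp h3).1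
  refine ⟨hfirst, ?_⟩
  obtain ⟨κ, hκ⟩ := hfirst
  have h3 := hF.par_sub hC h0 (hF.par_scalar hO hC κ 0)
  rw [show hF.bq f n v₁ - κ • LinearMap.id = 0 from LinearMap.ext fun x => by simp [hκ], zero_smul, sub_zero] at h3
  exact hF.par_zero_left hne hO hC h3

/-- with scalar components, a Siegel transformation of the second factor remains beside `U ⊗ c` -/
theorem eq_mul_radW (hC : Centre QW c f v₁ v₂) {n : oG Q} (hn : hF.InQ c n) {κ₁ κ₂ : F}
    (h1 : ∀ x, hF.bq f n v₁ x = κ₁ • x) (h2 : ∀ x, hF.bq f n v₂ x = κ₂ • x) :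
    ∃ (v : W) (hv : polar QW c v = 0) (S : U →ₗ[F] U), hF.InQ c ((hF.lp (1, sO hC.hc hv))⁻¹ * n) ∧
      ∀ z, ((hF.lp (1, sO hC.hc hv))⁻¹ * n).1 z = z + pt (S (hF.pW c z)) c := by
  obtain ⟨hcw, hw1, hw2⟩ := hF.vec_spec hC κ₁ κ₂
  refine ⟨_, hcw, hF.pW f ∘ₗ ((hF.lp (1, sO hC.hc hcw))⁻¹ * n).1.toLinearMap ∘ₗ pt.flip f,
    hF.inQ_mul hC (hF.inQ_inv (hF.inQ_sW hC.hc hcw)) hn, ?_⟩
  set m := (hF.lp (1, sO hC.hc hcw))⁻¹ * n with hm
  have hmq : hF.InQ c m := hF.inQ_mul hC (hF.inQ_inv (hF.inQ_sW hC.hc hcw)) hn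
  have hb : ∀ (v : W) (κ : F), polar QW c v = 0 → (∀ x, hF.bq f n v x = κ • x) →
      polar QW (hF.vec v₁ v₂ κ₁ κ₂) v = κ → hF.bq f m v = 0 := fun v κ hv hκ e => by
    rw [hm, hF.bq_mul hC (hF.inQ_inv (hF.inQ_sW hC.hc hcw)) hn hv, hF.bq_inv hC (hF.inQ_sW hC.hc hcw) hv,
      hF.bq_sW hC hcw hv, e]
    exact LinearMap.ext fun x => by simp [hκ]
  have b1 := hb v₁ κ₁ hC.c1 h1 hw1
  have b2 := hb v₂ κ₂ hC.c2 h2 hw2
  have p1 : ∀ (v : W), polar QW c v = 0 → polar QW f v = 0 → hF.bq f m v = 0 → ∀ u,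
      hF.pW v (m.1 (pt u f)) = 0 := fun v hcv hfv hb0 u => hF.eqU fun u' => by
    rw [hF.pW_v_apply hC hmq hcv hfv, hb0]
    simp [polar]
  intro z
  have e : m.1 (pt (hF.pW c z) f) = pt (hF.pW f (m.1 (pt (hF.pW c z) f))) c + pt (hF.pW c z) f := by
    conv_lhs => rw [hF.decomp hC (m.1 (pt (hF.pW c z) f))]
    rw [p1 _ hC.c1 hC.f1 b1, p1 _ hC.c2 hC.f2 b2, hF.pW_c_apply hmq, hF.pW_pt, hC.hcf, one_smul]
    simp
  rw [hF.apply_eq hC hmq z, b1, b2, e]
  conv_rhs => enter [1]; rw [hF.decomp hC z]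
  simp only [LinearMap.zero_apply, map_zero, smul_zero, add_zero, LinearMap.comp_apply, LinearEquiv.coe_coe,
    LinearMap.flip_apply]
  abel

/-- the part of the group in the radical consists of Siegel transformations of the second factor -/
theorem inQ_mem (hne : ¬ eo Q ≤ H) (hO : Over pt H) (hC : Centre QW c f v₁ v₂) {n : oG Q} (hn : hF.InQ c n)
    (hnH : n ∈ H) : ∃ (v : W) (hv : polar QW c v = 0), n = hF.lp (1, sO hC.hc hv) := by
  obtain ⟨⟨κ₁, h1⟩, ⟨κ₂, h2⟩⟩ := hF.scalar_of_mem hne hO hC hn hnH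
  obtain ⟨v, hv, S, hq, hS⟩ := hF.eq_mul_radW hC hn h1 h2
  have hS0 : S = 0 := by_contra fun h0 => hne (hF.eo_le_of_radW hO (hF.centre_ne hC) hC.hc (hF.radW_skew hC hS) h0
    ⟨_, mul_mem (inv_mem (sW_mem44 hO hF hC.hc hv)) hnH, hS⟩)
  refine ⟨v, hv, (inv_mul_eq_one.1 (ext_oG fun z => ?_)).symm⟩
  rw [hS, hS0, LinearMap.zero_apply, map_zero, LinearMap.zero_apply, add_zero, oG_one_apply]

end Frame44

end Cfsg.Agent.ClassicalMax.OTensorFour
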